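import Cfsg.Agent.Lib.TC.G.HN
import Cfsg.Agent.Lib.TC.HN.Ord

/-!
# Relations in the presented group
-/

namespace Cfsg.Agent.Lib.TC.D.HNC.Ord

open Cfsg.Agent.Lib.TC.Core Cfsg.Agent.Lib.TC.Enc Cfsg.Agent.Lib.TC.Pres Cfsg.Agent.Lib.TC.Perm
  Cfsg.Agent.Lib.TC.Main Cfsg.Agent.Lib.TC.Chain Cfsg.Agent.Lib.TC.G.HN Cfsg.Agent.Lib.TC.HNA

set_option maxRecDepth 100000

/-- The letters. -/
noncomputable abbrev e : Nat → PresentedGroup Rel := K.E Rel

theorem e_inv {c : Nat} (hc : c < 7) : e (invF c) = (e c)⁻¹ := (Cols.E_inv valid c hc).2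

theorem e1 : e 1 = (e 0)⁻¹ := e_inv (c := 0) (by decide)
theorem e3 : e 3 = (e 2)⁻¹ := e_inv (c := 2) (by decide)
theorem e6 : e 6 = (e 5)⁻¹ := e_inv (c := 5) (by decide)
theorem e4 : e 4 = (e 4)⁻¹ := e_inv (c := 4) (by decide)

theorem rone {l : List Nat} (hl : l ∈ rels) : prodA e l = 1 := rel_prodA_one valid hrels l hl

/-- The square of the first generator. -/
noncomputable def aa : PresentedGroup Rel := e 0 * e 0

/-- The parity of the letters of the second generator. -/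
def pY : List Nat → Bool
  | [] => false
  | c :: l => xor (c == 2 || c == 3) (pY l)

theorem r1' : aa * e 2 * aa = e 2 := by
  have h : prodA e [3,0,0,2,0,0] = 1 := rone (by decide)
  simp only [prodA_cons, prodA_nil, one_mul] at h
  rw [e3] at h
  have h2 : e 0 * e 0 * e 2 * e 0 * e 0 = e 2 := mul_inv_eq_one.1 h
  rw [aa]
  simpa [mul_assoc] using h2

theorem s2 : e 2 * aa = aa⁻¹ * e 2 := by
  have h := r1'
  rw [eq_inv_mul_iff_mul_eq, ← mul_assoc]
  exact h

theorem s3 : e 3 * aa = aa⁻¹ * e 3 := by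
  rw [e3]
  have h := congrArg Inv.inv s2
  simpa using h.symm

theorem s0 : e 0 * aa = aa * e 0 := by
  simp [aa, mul_assoc]

theorem s1 : e 1 * aa = aa * e 1 := by
  rw [e1]
  simp [aa, mul_assoc]

theorem aa_conj (w : List Nat) (hw : ∀ z ∈ w, z < 4) :
    SemiconjBy (prodA e w) aa (if pY w then aa⁻¹ else aa) ∧
    SemiconjBy (prodA e w) aa⁻¹ (if pY w then aa else aa⁻¹) := by
  induction w with
  | nil =>
    simp only [pY, Bool.false_eq_true, if_false, prodA_nil]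
    exact ⟨SemiconjBy.one_left _, SemiconjBy.one_left _⟩
  | cons z l ih =>
    obtain ⟨i1, i2⟩ := ih (fun y hy => hw y (by simp [hy]))
    have hz := hw z (by simp)
    rw [prodA_cons]
    have t0 : SemiconjBy (e 0) aa aa := s0
    have t1 : SemiconjBy (e 1) aa aa := s1
    have t2 : SemiconjBy (e 2) aa aa⁻¹ := s2
    have t3 : SemiconjBy (e 3) aa aa⁻¹ := s3
    interval_cases z
    · have hp : pY (0 :: l) = pY l := by simp [pY]
      rw [hp]
      exact ⟨i1.mul_left t0, i2.mul_left t0.inv_right⟩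
    · have hp : pY (1 :: l) = pY l := by simp [pY]
      rw [hp]
      exact ⟨i1.mul_left t1, i2.mul_left t1.inv_right⟩
    · have h1 := i2.mul_left t2
      have h2 := i1.mul_left (by simpa using t2.inv_right : SemiconjBy (e 2) aa⁻¹ aa)
      cases h : pY l <;> simp_all [pY]
    · have h1 := i2.mul_left t3
      have h2 := i1.mul_left (by simpa using t3.inv_right : SemiconjBy (e 3) aa⁻¹ aa)
      cases h : pY l <;> simp_all [pY]

theorem aa_inv : aa⁻¹ = aa := by
  have h : prodA e [2,2,2,0,2,2,1,2,2,2,0,2,2,1,2,2,2,0,2,2,1] = 1 := rone (by decide)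
  have h1 := (aa_conj [2,2,2,0,2,2,1,2,2,2,0,2,2,1,2,2,2,0,2,2,1] (by decide)).1
  rw [h] at h1
  have h2 : pY [2,2,2,0,2,2,1,2,2,2,0,2,2,1,2,2,2,0,2,2,1] = true := by decide
  rw [h2] at h1
  have h3 : 1 * aa = aa⁻¹ * 1 := h1
  simpa using h3.symm

theorem aa_sq : aa * aa = 1 := by
  have h := aa_inv
  nth_rewrite 1 [← h]
  simp

/-- The square of the first generator commutes with the words in the first two generators. -/
theorem aa_comm (w : List Nat) (hw : ∀ z ∈ w, z < 4) : prodA e w * aa = aa * prodA e w := by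
  have h := (aa_conj w hw).1
  rw [aa_inv] at h
  simp only [ite_self] at h
  exact h

/-- The word of a commutator. -/
def WC : List Nat := [2,2,0,3,0,3,0,2,2]

/-- The word `c`. -/
def CW : List Nat := [2,2,0,3,0,3,0,2,2,0,3,3,1,2,1,2,1,3,3,1]

/-- The element `c`. -/
noncomputable def cc : PresentedGroup Rel := prodA e CW

theorem cc_eq : cc = (e 0)⁻¹ * (prodA e WC)⁻¹ * e 0 * prodA e WC := by
  have h1 : CW = WC ++ [0] ++ invW invF WC ++ [1] := by decide
  have h2 : prodA e (invW invF WC) = (prodA e WC)⁻¹ := by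
    apply prodA_invW
    intro z hz
    apply e_inv
    have : ∀ z ∈ WC, z < 7 := by decide
    exact this z hz
  rw [cc, h1, prodA_append, prodA_append, prodA_append, h2]
  simp only [prodA_cons, prodA_nil, one_mul]
  rw [e1]
  simp [mul_assoc]

/-- The first generator inverts `c`. -/
theorem x_inv_cc : e 0 * cc * (e 0)⁻¹ = cc⁻¹ := by
  have hg := aa_comm WC (by decide)
  rw [cc_eq]
  generalize prodA e WC = g at hg
  generalize hx : e 0 = x at hg
  rw [aa, hx] at hg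
  have h3 : x * g * x⁻¹ = x⁻¹ * g * x := by
    calc x * g * x⁻¹ = x⁻¹ * (x * x * g) * x⁻¹ := by group
      _ = x⁻¹ * (g * (x * x)) * x⁻¹ := by rw [hg]
      _ = x⁻¹ * g * x := by group
  calc x * (x⁻¹ * g⁻¹ * x * g) * x⁻¹ = g⁻¹ * (x * g * x⁻¹) := by group
    _ = g⁻¹ * (x⁻¹ * g * x) := by rw [h3]
    _ = _ := by group

/-- The subgroup of the first three generators. -/
noncomputable abbrev KK : Subgroup (PresentedGroup Rel) := Lt e [0,1,2,3,4]

theorem t5 : e 5 ^ 5 = 1 := by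
  have h : prodA e [5,5,5,5,5] = 1 := rone (by decide)
  simpa [pow_succ, mul_assoc] using h

theorem conj1 : e 1 * e 5 * (e 1)⁻¹ = e 5 ^ 3 := by
  have h : prodA e [5,5,0,5,1] = 1 := rone (by decide)
  simp only [prodA_cons, prodA_nil, one_mul] at h
  have h5 := t5
  have hi : (e 1)⁻¹ = e 0 := by rw [e1, inv_inv]
  rw [hi]
  have h2 : e 1 * e 5 * e 0 * (e 5 * e 5) = 1 := by simpa [mul_assoc] using h
  have h3 : e 5 ^ 3 * (e 5 * e 5) = 1 := by
    rw [← h5]
    simp [pow_succ, mul_assoc]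
  exact mul_right_cancel (h2.trans h3.symm)

theorem conj0 : e 0 * e 5 * (e 0)⁻¹ = e 5 ^ 2 := by
  have h1 := conj1
  have h5 := t5
  have hi : (e 1)⁻¹ = e 0 := by rw [e1, inv_inv]
  rw [hi] at h1
  have h2 : e 1 * e 5 ^ 2 * e 0 = e 5 := by
    have h3 : e 1 * e 5 ^ 2 * e 0 = (e 1 * e 5 * e 0) ^ 2 := by
      have h4 : e 0 * e 1 = 1 := by rw [e1]; simp
      calc e 1 * e 5 ^ 2 * e 0 = e 1 * e 5 * (e 0 * e 1) * e 5 * e 0 := by
            rw [h4]; simp [pow_succ, mul_assoc]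
        _ = (e 1 * e 5 * e 0) ^ 2 := by
            simp [pow_succ, mul_assoc]
    rw [h3, h1, ← pow_mul]
    calc e 5 ^ (3 * 2) = e 5 ^ 5 * e 5 := by simp [pow_succ]
      _ = e 5 := by rw [h5, one_mul]
  calc e 0 * e 5 * (e 0)⁻¹ = e 0 * (e 1 * e 5 ^ 2 * e 0) * (e 0)⁻¹ := by rw [h2]
    _ = e 5 ^ 2 := by
      rw [e1]
      group

theorem conj3 : e 3 * e 5 * (e 3)⁻¹ = e 5 := by
  have h : prodA e [2,5,3,6] = 1 := rone (by decide)
  simp only [prodA_cons, prodA_nil, one_mul] at h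
  have hi : (e 3)⁻¹ = e 2 := by rw [e3, inv_inv]
  rw [hi]
  rw [e6] at h
  have h2 : (e 5)⁻¹ * (e 3 * e 5 * e 2) = 1 := by simpa [mul_assoc] using h
  exact (inv_mul_eq_one.1 h2).symm

theorem conj2 : e 2 * e 5 * (e 2)⁻¹ = e 5 := by
  have h := conj3
  rw [e3, inv_inv] at h
  have h2 : (e 2)⁻¹ * e 5 * e 2 = e 5 := h
  calc e 2 * e 5 * (e 2)⁻¹ = e 2 * ((e 2)⁻¹ * e 5 * e 2) * (e 2)⁻¹ := by rw [h2]
    _ = e 5 := by group

theorem z2 : e 4 * e 4 = 1 := by
  have h : prodA e [4,4] = 1 := rone (by decide)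
  simpa using h

/-- The relation of the involution with the element of order five. -/
theorem rel_zt : e 5 * (e 4 * e 5 * (e 4)⁻¹) = e 4 * e 5 ^ 4 := by
  have h : prodA e [5,4,5,4,5,4] = 1 := rone (by decide)
  simp only [prodA_cons, prodA_nil, one_mul] at h
  have h5 := t5
  have hz : (e 4)⁻¹ = e 4 := inv_eq_of_mul_eq_one_left z2
  rw [hz]
  have h2 : e 4 * (e 5 * e 4 * e 5 * e 4 * e 5) = 1 := by simpa [mul_assoc] using h
  have h3 : e 5 * e 4 * e 5 * e 4 * e 5 = e 4 := by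
    have := eq_inv_of_mul_eq_one_right h2
    rwa [hz] at this
  have h4 : e 5 ^ 4 * e 5 = 1 := by
    rw [← h5]
    simp [pow_succ]
  calc e 5 * (e 4 * e 5 * e 4) = e 5 * e 4 * e 5 * e 4 * (e 5 * e 5 ^ 4) := by
        have : e 5 * e 5 ^ 4 = 1 := by
          rw [← h5]
          simp [pow_succ, mul_assoc]
        rw [this]
        simp [mul_assoc]
    _ = (e 5 * e 4 * e 5 * e 4 * e 5) * e 5 ^ 4 := by simp [mul_assoc]
    _ = e 4 * e 5 ^ 4 := by rw [h3]

end Cfsg.Agent.Lib.TC.D.HNC.Ord
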