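import Cfsg.Agent.Lib.TC.D.HNC.S2_Tab
import Cfsg.Agent.Lib.TC.D.HNC.S2_C0
import Cfsg.Agent.Lib.TC.D.HNC.S2_C1
import Cfsg.Agent.Lib.TC.D.HNC.S2_C2
import Cfsg.Agent.Lib.TC.D.HNC.S2_C3
import Cfsg.Agent.Lib.TC.D.HNC.S2_C4
import Cfsg.Agent.Lib.TC.D.HNC.S2_C5
import Cfsg.Agent.Lib.TC.D.HNC.S2_C6
import Cfsg.Agent.Lib.TC.D.HNC.S2_C7
import Cfsg.Agent.Lib.TC.D.HNC.S2_C8
import Cfsg.Agent.Lib.TC.D.HNC.S2_C9
import Cfsg.Agent.Lib.TC.D.HNC.S2_C10
import Cfsg.Agent.Lib.TC.D.HNC.S2_C11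
import Cfsg.Agent.Lib.TC.D.HNC.S2_C12
import Cfsg.Agent.Lib.TC.D.HNC.S2_C13
import Cfsg.Agent.Lib.TC.D.HNC.S2_C14
import Cfsg.Agent.Lib.TC.D.HNC.S2_C15
import Cfsg.Agent.Lib.TC.D.HNC.S2_C16
import Cfsg.Agent.Lib.TC.D.HNC.S2_C17
import Cfsg.Agent.Lib.TC.D.HNC.S2_C18
import Cfsg.Agent.Lib.TC.D.HNC.S2_C19
import Cfsg.Agent.Lib.TC.D.HNC.S2_C20
import Cfsg.Agent.Lib.TC.D.HNC.S2_C21
import Cfsg.Agent.Lib.TC.D.HNC.S2_C22
import Cfsg.Agent.Lib.TC.D.HNC.S2_C23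
import Cfsg.Agent.Lib.TC.D.HNC.S2_C24
import Cfsg.Agent.Lib.TC.D.HNC.S2_C25
import Cfsg.Agent.Lib.TC.D.HNC.S2_C26
import Cfsg.Agent.Lib.TC.D.HNC.S2_C27
import Cfsg.Agent.Lib.TC.D.HNC.S2_C28
import Cfsg.Agent.Lib.TC.D.HNC.S2_C29
import Cfsg.Agent.Lib.TC.D.HNC.S2_C30
import Cfsg.Agent.Lib.TC.D.HNC.S2_C31
import Cfsg.Agent.Lib.TC.D.HNC.S2_C32
import Cfsg.Agent.Lib.TC.D.HNC.S2_C33
import Cfsg.Agent.Lib.TC.D.HNC.S2_C34
import Cfsg.Agent.Lib.TC.D.HNC.S2_C35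
import Cfsg.Agent.Lib.TC.D.HNC.S2_C36
import Cfsg.Agent.Lib.TC.D.HNC.S2_C37
import Cfsg.Agent.Lib.TC.D.HNC.S2_F0
import Cfsg.Agent.Lib.TC.D.HNC.S2_F1
import Cfsg.Agent.Lib.TC.D.HNC.S2_F2
import Cfsg.Agent.Lib.TC.D.HNC.S2_F3
import Cfsg.Agent.Lib.TC.D.HNC.S2_F4
import Cfsg.Agent.Lib.TC.D.HNC.S2_F5
import Cfsg.Agent.Lib.TC.D.HNC.S2_F6
import Cfsg.Agent.Lib.TC.D.HNC.S2_F7
import Cfsg.Agent.Lib.TC.D.HNC.S2_F8
import Cfsg.Agent.Lib.TC.D.HNC.S2_F9
import Cfsg.Agent.Lib.TC.D.HNC.S2_F10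
import Cfsg.Agent.Lib.TC.D.HNC.S2_F11
import Cfsg.Agent.Lib.TC.D.HNC.S2_F12
import Cfsg.Agent.Lib.TC.D.HNC.S2_F13
import Cfsg.Agent.Lib.TC.D.HNC.S2_F14
import Cfsg.Agent.Lib.TC.D.HNC.S2_F15
import Cfsg.Agent.Lib.TC.D.HNC.S2_F16
import Cfsg.Agent.Lib.TC.D.HNC.S2_F17
import Cfsg.Agent.Lib.TC.D.HNC.S2_F18
import Cfsg.Agent.Lib.TC.D.HNC.S2_F19
import Cfsg.Agent.Lib.TC.D.HNC.S2_F20
import Cfsg.Agent.Lib.TC.D.HNC.S2_F21

namespace Cfsg.Agent.Lib.TC.D.HNC.S2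

open Cfsg.Agent.Lib.TC.Core Cfsg.Agent.Lib.TC.Enc Cfsg.Agent.Lib.TC.Pres Cfsg.Agent.Lib.TC.Perm Cfsg.Agent.Lib.TC.Main Cfsg.Agent.Lib.TC.Chain

set_option maxRecDepth 100000

open Cfsg.Agent.Lib.TC.D.HNC.S2_Tab Cfsg.Agent.Lib.TC.G.HN

theorem allC0 : cert.chkRange 0 9031 = true := Cfsg.Agent.Lib.TC.D.HNC.S2_C0.ok
theorem allC1 : cert.chkRange 0 17939 = true := Cert.chkRange_join (lo := 0) (a := 9031) (b := 8908) _ allC0 Cfsg.Agent.Lib.TC.D.HNC.S2_C1.ok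
theorem allC2 : cert.chkRange 0 26829 = true := Cert.chkRange_join (lo := 0) (a := 17939) (b := 8890) _ allC1 Cfsg.Agent.Lib.TC.D.HNC.S2_C2.ok
theorem allC3 : cert.chkRange 0 35737 = true := Cert.chkRange_join (lo := 0) (a := 26829) (b := 8908) _ allC2 Cfsg.Agent.Lib.TC.D.HNC.S2_C3.ok
theorem allC4 : cert.chkRange 0 44679 = true := Cert.chkRange_join (lo := 0) (a := 35737) (b := 8942) _ allC3 Cfsg.Agent.Lib.TC.D.HNC.S2_C4.ok
theorem allC5 : cert.chkRange 0 53566 = true := Cert.chkRange_join (lo := 0) (a := 44679) (b := 8887) _ allC4 Cfsg.Agent.Lib.TC.D.HNC.S2_C5.ok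
theorem allC6 : cert.chkRange 0 62482 = true := Cert.chkRange_join (lo := 0) (a := 53566) (b := 8916) _ allC5 Cfsg.Agent.Lib.TC.D.HNC.S2_C6.ok
theorem allC7 : cert.chkRange 0 71440 = true := Cert.chkRange_join (lo := 0) (a := 62482) (b := 8958) _ allC6 Cfsg.Agent.Lib.TC.D.HNC.S2_C7.ok
theorem allC8 : cert.chkRange 0 80469 = true := Cert.chkRange_join (lo := 0) (a := 71440) (b := 9029) _ allC7 Cfsg.Agent.Lib.TC.D.HNC.S2_C8.ok
theorem allC9 : cert.chkRange 0 89457 = true := Cert.chkRange_join (lo := 0) (a := 80469) (b := 8988) _ allC8 Cfsg.Agent.Lib.TC.D.HNC.S2_C9.ok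
theorem allC10 : cert.chkRange 0 98499 = true := Cert.chkRange_join (lo := 0) (a := 89457) (b := 9042) _ allC9 Cfsg.Agent.Lib.TC.D.HNC.S2_C10.ok
theorem allC11 : cert.chkRange 0 107587 = true := Cert.chkRange_join (lo := 0) (a := 98499) (b := 9088) _ allC10 Cfsg.Agent.Lib.TC.D.HNC.S2_C11.ok
theorem allC12 : cert.chkRange 0 116689 = true := Cert.chkRange_join (lo := 0) (a := 107587) (b := 9102) _ allC11 Cfsg.Agent.Lib.TC.D.HNC.S2_C12.ok
theorem allC13 : cert.chkRange 0 125822 = true := Cert.chkRange_join (lo := 0) (a := 116689) (b := 9133) _ allC12 Cfsg.Agent.Lib.TC.D.HNC.S2_C13.ok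
theorem allC14 : cert.chkRange 0 134968 = true := Cert.chkRange_join (lo := 0) (a := 125822) (b := 9146) _ allC13 Cfsg.Agent.Lib.TC.D.HNC.S2_C14.ok
theorem allC15 : cert.chkRange 0 144147 = true := Cert.chkRange_join (lo := 0) (a := 134968) (b := 9179) _ allC14 Cfsg.Agent.Lib.TC.D.HNC.S2_C15.ok
theorem allC16 : cert.chkRange 0 153348 = true := Cert.chkRange_join (lo := 0) (a := 144147) (b := 9201) _ allC15 Cfsg.Agent.Lib.TC.D.HNC.S2_C16.ok
theorem allC17 : cert.chkRange 0 162551 = true := Cert.chkRange_join (lo := 0) (a := 153348) (b := 9203) _ allC16 Cfsg.Agent.Lib.TC.D.HNC.S2_C17.ok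
theorem allC18 : cert.chkRange 0 171820 = true := Cert.chkRange_join (lo := 0) (a := 162551) (b := 9269) _ allC17 Cfsg.Agent.Lib.TC.D.HNC.S2_C18.ok
theorem allC19 : cert.chkRange 0 181044 = true := Cert.chkRange_join (lo := 0) (a := 171820) (b := 9224) _ allC18 Cfsg.Agent.Lib.TC.D.HNC.S2_C19.ok
theorem allC20 : cert.chkRange 0 190253 = true := Cert.chkRange_join (lo := 0) (a := 181044) (b := 9209) _ allC19 Cfsg.Agent.Lib.TC.D.HNC.S2_C20.ok
theorem allC21 : cert.chkRange 0 199469 = true := Cert.chkRange_join (lo := 0) (a := 190253) (b := 9216) _ allC20 Cfsg.Agent.Lib.TC.D.HNC.S2_C21.ok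
theorem allC22 : cert.chkRange 0 208674 = true := Cert.chkRange_join (lo := 0) (a := 199469) (b := 9205) _ allC21 Cfsg.Agent.Lib.TC.D.HNC.S2_C22.ok
theorem allC23 : cert.chkRange 0 217795 = true := Cert.chkRange_join (lo := 0) (a := 208674) (b := 9121) _ allC22 Cfsg.Agent.Lib.TC.D.HNC.S2_C23.ok
theorem allC24 : cert.chkRange 0 227012 = true := Cert.chkRange_join (lo := 0) (a := 217795) (b := 9217) _ allC23 Cfsg.Agent.Lib.TC.D.HNC.S2_C24.ok
theorem allC25 : cert.chkRange 0 236190 = true := Cert.chkRange_join (lo := 0) (a := 227012) (b := 9178) _ allC24 Cfsg.Agent.Lib.TC.D.HNC.S2_C25.ok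
theorem allC26 : cert.chkRange 0 245202 = true := Cert.chkRange_join (lo := 0) (a := 236190) (b := 9012) _ allC25 Cfsg.Agent.Lib.TC.D.HNC.S2_C26.ok
theorem allC27 : cert.chkRange 0 253699 = true := Cert.chkRange_join (lo := 0) (a := 245202) (b := 8497) _ allC26 Cfsg.Agent.Lib.TC.D.HNC.S2_C27.ok
theorem allC28 : cert.chkRange 0 262114 = true := Cert.chkRange_join (lo := 0) (a := 253699) (b := 8415) _ allC27 Cfsg.Agent.Lib.TC.D.HNC.S2_C28.ok
theorem allC29 : cert.chkRange 0 270597 = true := Cert.chkRange_join (lo := 0) (a := 262114) (b := 8483) _ allC28 Cfsg.Agent.Lib.TC.D.HNC.S2_C29.ok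
theorem allC30 : cert.chkRange 0 279098 = true := Cert.chkRange_join (lo := 0) (a := 270597) (b := 8501) _ allC29 Cfsg.Agent.Lib.TC.D.HNC.S2_C30.ok
theorem allC31 : cert.chkRange 0 287585 = true := Cert.chkRange_join (lo := 0) (a := 279098) (b := 8487) _ allC30 Cfsg.Agent.Lib.TC.D.HNC.S2_C31.ok
theorem allC32 : cert.chkRange 0 296015 = true := Cert.chkRange_join (lo := 0) (a := 287585) (b := 8430) _ allC31 Cfsg.Agent.Lib.TC.D.HNC.S2_C32.ok
theorem allC33 : cert.chkRange 0 304502 = true := Cert.chkRange_join (lo := 0) (a := 296015) (b := 8487) _ allC32 Cfsg.Agent.Lib.TC.D.HNC.S2_C33.ok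
theorem allC34 : cert.chkRange 0 313098 = true := Cert.chkRange_join (lo := 0) (a := 304502) (b := 8596) _ allC33 Cfsg.Agent.Lib.TC.D.HNC.S2_C34.ok
theorem allC35 : cert.chkRange 0 320763 = true := Cert.chkRange_join (lo := 0) (a := 313098) (b := 7665) _ allC34 Cfsg.Agent.Lib.TC.D.HNC.S2_C35.ok
theorem allC36 : cert.chkRange 0 327422 = true := Cert.chkRange_join (lo := 0) (a := 320763) (b := 6659) _ allC35 Cfsg.Agent.Lib.TC.D.HNC.S2_C36.ok
theorem allC37 : cert.chkRange 0 329681 = true := Cert.chkRange_join (lo := 0) (a := 327422) (b := 2259) _ allC36 Cfsg.Agent.Lib.TC.D.HNC.S2_C37.ok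

theorem allF0 : cert.chkFinal 0 15000 = true := Cfsg.Agent.Lib.TC.D.HNC.S2_F0.ok
theorem allF1 : cert.chkFinal 0 30000 = true := Cert.chkFinal_join (lo := 0) (a := 15000) (b := 15000) _ allF0 Cfsg.Agent.Lib.TC.D.HNC.S2_F1.ok
theorem allF2 : cert.chkFinal 0 45000 = true := Cert.chkFinal_join (lo := 0) (a := 30000) (b := 15000) _ allF1 Cfsg.Agent.Lib.TC.D.HNC.S2_F2.ok
theorem allF3 : cert.chkFinal 0 60000 = true := Cert.chkFinal_join (lo := 0) (a := 45000) (b := 15000) _ allF2 Cfsg.Agent.Lib.TC.D.HNC.S2_F3.ok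
theorem allF4 : cert.chkFinal 0 75000 = true := Cert.chkFinal_join (lo := 0) (a := 60000) (b := 15000) _ allF3 Cfsg.Agent.Lib.TC.D.HNC.S2_F4.ok
theorem allF5 : cert.chkFinal 0 90000 = true := Cert.chkFinal_join (lo := 0) (a := 75000) (b := 15000) _ allF4 Cfsg.Agent.Lib.TC.D.HNC.S2_F5.ok
theorem allF6 : cert.chkFinal 0 105000 = true := Cert.chkFinal_join (lo := 0) (a := 90000) (b := 15000) _ allF5 Cfsg.Agent.Lib.TC.D.HNC.S2_F6.ok
theorem allF7 : cert.chkFinal 0 120000 = true := Cert.chkFinal_join (lo := 0) (a := 105000) (b := 15000) _ allF6 Cfsg.Agent.Lib.TC.D.HNC.S2_F7.ok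
theorem allF8 : cert.chkFinal 0 135000 = true := Cert.chkFinal_join (lo := 0) (a := 120000) (b := 15000) _ allF7 Cfsg.Agent.Lib.TC.D.HNC.S2_F8.ok
theorem allF9 : cert.chkFinal 0 150000 = true := Cert.chkFinal_join (lo := 0) (a := 135000) (b := 15000) _ allF8 Cfsg.Agent.Lib.TC.D.HNC.S2_F9.ok
theorem allF10 : cert.chkFinal 0 165000 = true := Cert.chkFinal_join (lo := 0) (a := 150000) (b := 15000) _ allF9 Cfsg.Agent.Lib.TC.D.HNC.S2_F10.ok
theorem allF11 : cert.chkFinal 0 180000 = true := Cert.chkFinal_join (lo := 0) (a := 165000) (b := 15000) _ allF10 Cfsg.Agent.Lib.TC.D.HNC.S2_F11.ok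
theorem allF12 : cert.chkFinal 0 195000 = true := Cert.chkFinal_join (lo := 0) (a := 180000) (b := 15000) _ allF11 Cfsg.Agent.Lib.TC.D.HNC.S2_F12.ok
theorem allF13 : cert.chkFinal 0 210000 = true := Cert.chkFinal_join (lo := 0) (a := 195000) (b := 15000) _ allF12 Cfsg.Agent.Lib.TC.D.HNC.S2_F13.ok
theorem allF14 : cert.chkFinal 0 225000 = true := Cert.chkFinal_join (lo := 0) (a := 210000) (b := 15000) _ allF13 Cfsg.Agent.Lib.TC.D.HNC.S2_F14.ok
theorem allF15 : cert.chkFinal 0 240000 = true := Cert.chkFinal_join (lo := 0) (a := 225000) (b := 15000) _ allF14 Cfsg.Agent.Lib.TC.D.HNC.S2_F15.ok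
theorem allF16 : cert.chkFinal 0 255000 = true := Cert.chkFinal_join (lo := 0) (a := 240000) (b := 15000) _ allF15 Cfsg.Agent.Lib.TC.D.HNC.S2_F16.ok
theorem allF17 : cert.chkFinal 0 270000 = true := Cert.chkFinal_join (lo := 0) (a := 255000) (b := 15000) _ allF16 Cfsg.Agent.Lib.TC.D.HNC.S2_F17.ok
theorem allF18 : cert.chkFinal 0 285000 = true := Cert.chkFinal_join (lo := 0) (a := 270000) (b := 15000) _ allF17 Cfsg.Agent.Lib.TC.D.HNC.S2_F18.ok
theorem allF19 : cert.chkFinal 0 300000 = true := Cert.chkFinal_join (lo := 0) (a := 285000) (b := 15000) _ allF18 Cfsg.Agent.Lib.TC.D.HNC.S2_F19.ok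
theorem allF20 : cert.chkFinal 0 315000 = true := Cert.chkFinal_join (lo := 0) (a := 300000) (b := 15000) _ allF19 Cfsg.Agent.Lib.TC.D.HNC.S2_F20.ok
theorem allF21 : cert.chkFinal 0 329681 = true := Cert.chkFinal_join (lo := 0) (a := 315000) (b := 14681) _ allF20 Cfsg.Agent.Lib.TC.D.HNC.S2_F21.ok

theorem hFinal : cert.chkFinal 0 329681 = true := allF21

theorem h0 : cert.eLvl (cert.par (cert.find cert.MAX cert.D 0)) = cert.MAX := by decide +kernel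

theorem hcount : cert.countRoots cert.N = 126000 := by
  rw [countRoots_eq_acc]
  decide +kernel

theorem hchecked : Checked cert where
  hN := by decide
  hC := allC37
  hF := hFinal
  h0 := h0

theorem h1 : chkRelRots cert inv' rels' witT.get = true := by decide +kernel

theorem h2 : chkSubRots cert subs' = true := by decide +kernel

end Cfsg.Agent.Lib.TC.D.HNC.S2
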