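import Cfsg.Agent.Lib.TC.D.HNC.S3_Tab
import Cfsg.Agent.Lib.TC.D.HNC.S3_C0
import Cfsg.Agent.Lib.TC.D.HNC.S3_C1
import Cfsg.Agent.Lib.TC.D.HNC.S3_C2
import Cfsg.Agent.Lib.TC.D.HNC.S3_C3
import Cfsg.Agent.Lib.TC.D.HNC.S3_C4
import Cfsg.Agent.Lib.TC.D.HNC.S3_C5
import Cfsg.Agent.Lib.TC.D.HNC.S3_C6
import Cfsg.Agent.Lib.TC.D.HNC.S3_C7
import Cfsg.Agent.Lib.TC.D.HNC.S3_C8
import Cfsg.Agent.Lib.TC.D.HNC.S3_C9
import Cfsg.Agent.Lib.TC.D.HNC.S3_C10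
import Cfsg.Agent.Lib.TC.D.HNC.S3_C11
import Cfsg.Agent.Lib.TC.D.HNC.S3_C12
import Cfsg.Agent.Lib.TC.D.HNC.S3_F0
import Cfsg.Agent.Lib.TC.D.HNC.S3_F1
import Cfsg.Agent.Lib.TC.D.HNC.S3_F2
import Cfsg.Agent.Lib.TC.D.HNC.S3_F3
import Cfsg.Agent.Lib.TC.D.HNC.S3_F4
import Cfsg.Agent.Lib.TC.D.HNC.S3_F5
import Cfsg.Agent.Lib.TC.D.HNC.S3_F6
import Cfsg.Agent.Lib.TC.D.HNC.S3_F7

namespace Cfsg.Agent.Lib.TC.D.HNC.S3

open Cfsg.Agent.Lib.TC.Core Cfsg.Agent.Lib.TC.Enc Cfsg.Agent.Lib.TC.Pres Cfsg.Agent.Lib.TC.Perm Cfsg.Agent.Lib.TC.Main Cfsg.Agent.Lib.TC.Chain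

set_option maxRecDepth 100000

open Cfsg.Agent.Lib.TC.D.HNC.S3_Tab Cfsg.Agent.Lib.TC.G.HN

theorem allC0 : cert.chkRange 0 8989 = true := Cfsg.Agent.Lib.TC.D.HNC.S3_C0.ok
theorem allC1 : cert.chkRange 0 17948 = true := Cert.chkRange_join (lo := 0) (a := 8989) (b := 8959) _ allC0 Cfsg.Agent.Lib.TC.D.HNC.S3_C1.ok
theorem allC2 : cert.chkRange 0 26998 = true := Cert.chkRange_join (lo := 0) (a := 17948) (b := 9050) _ allC1 Cfsg.Agent.Lib.TC.D.HNC.S3_C2.ok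
theorem allC3 : cert.chkRange 0 36176 = true := Cert.chkRange_join (lo := 0) (a := 26998) (b := 9178) _ allC2 Cfsg.Agent.Lib.TC.D.HNC.S3_C3.ok
theorem allC4 : cert.chkRange 0 45368 = true := Cert.chkRange_join (lo := 0) (a := 36176) (b := 9192) _ allC3 Cfsg.Agent.Lib.TC.D.HNC.S3_C4.ok
theorem allC5 : cert.chkRange 0 54624 = true := Cert.chkRange_join (lo := 0) (a := 45368) (b := 9256) _ allC4 Cfsg.Agent.Lib.TC.D.HNC.S3_C5.ok
theorem allC6 : cert.chkRange 0 63879 = true := Cert.chkRange_join (lo := 0) (a := 54624) (b := 9255) _ allC5 Cfsg.Agent.Lib.TC.D.HNC.S3_C6.ok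
theorem allC7 : cert.chkRange 0 73111 = true := Cert.chkRange_join (lo := 0) (a := 63879) (b := 9232) _ allC6 Cfsg.Agent.Lib.TC.D.HNC.S3_C7.ok
theorem allC8 : cert.chkRange 0 82044 = true := Cert.chkRange_join (lo := 0) (a := 73111) (b := 8933) _ allC7 Cfsg.Agent.Lib.TC.D.HNC.S3_C8.ok
theorem allC9 : cert.chkRange 0 90659 = true := Cert.chkRange_join (lo := 0) (a := 82044) (b := 8615) _ allC8 Cfsg.Agent.Lib.TC.D.HNC.S3_C9.ok
theorem allC10 : cert.chkRange 0 99211 = true := Cert.chkRange_join (lo := 0) (a := 90659) (b := 8552) _ allC9 Cfsg.Agent.Lib.TC.D.HNC.S3_C10.ok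
theorem allC11 : cert.chkRange 0 106805 = true := Cert.chkRange_join (lo := 0) (a := 99211) (b := 7594) _ allC10 Cfsg.Agent.Lib.TC.D.HNC.S3_C11.ok
theorem allC12 : cert.chkRange 0 109182 = true := Cert.chkRange_join (lo := 0) (a := 106805) (b := 2377) _ allC11 Cfsg.Agent.Lib.TC.D.HNC.S3_C12.ok

theorem allF0 : cert.chkFinal 0 15000 = true := Cfsg.Agent.Lib.TC.D.HNC.S3_F0.ok
theorem allF1 : cert.chkFinal 0 30000 = true := Cert.chkFinal_join (lo := 0) (a := 15000) (b := 15000) _ allF0 Cfsg.Agent.Lib.TC.D.HNC.S3_F1.ok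
theorem allF2 : cert.chkFinal 0 45000 = true := Cert.chkFinal_join (lo := 0) (a := 30000) (b := 15000) _ allF1 Cfsg.Agent.Lib.TC.D.HNC.S3_F2.ok
theorem allF3 : cert.chkFinal 0 60000 = true := Cert.chkFinal_join (lo := 0) (a := 45000) (b := 15000) _ allF2 Cfsg.Agent.Lib.TC.D.HNC.S3_F3.ok
theorem allF4 : cert.chkFinal 0 75000 = true := Cert.chkFinal_join (lo := 0) (a := 60000) (b := 15000) _ allF3 Cfsg.Agent.Lib.TC.D.HNC.S3_F4.ok
theorem allF5 : cert.chkFinal 0 90000 = true := Cert.chkFinal_join (lo := 0) (a := 75000) (b := 15000) _ allF4 Cfsg.Agent.Lib.TC.D.HNC.S3_F5.ok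
theorem allF6 : cert.chkFinal 0 105000 = true := Cert.chkFinal_join (lo := 0) (a := 90000) (b := 15000) _ allF5 Cfsg.Agent.Lib.TC.D.HNC.S3_F6.ok
theorem allF7 : cert.chkFinal 0 109182 = true := Cert.chkFinal_join (lo := 0) (a := 105000) (b := 4182) _ allF6 Cfsg.Agent.Lib.TC.D.HNC.S3_F7.ok

theorem hFinal : cert.chkFinal 0 109182 = true := allF7

theorem h0 : cert.eLvl (cert.par (cert.find cert.MAX cert.D 0)) = cert.MAX := by decide +kernel

theorem hcount : cert.countRoots cert.N = 42000 := by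
  rw [countRoots_eq_acc]
  decide +kernel

theorem hchecked : Checked cert where
  hN := by decide
  hC := allC12
  hF := hFinal
  h0 := h0

theorem h1 : chkRelRots cert inv' rels' witT.get = true := by decide +kernel

theorem h2 : chkSubRots cert subs' = true := by decide +kernel

end Cfsg.Agent.Lib.TC.D.HNC.S3
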