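import Cfsg.Agent.Lib.TC.D.HNC.S1
import Cfsg.Agent.Lib.TC.D.HNC.S2
import Cfsg.Agent.Lib.TC.D.HNC.S3
import Cfsg.Agent.Lib.TC.D.HNC.Ord0

/-!
# The bound for the order of the subgroup generated by the first three generators
-/

namespace Cfsg.Agent.Lib.TC.D.HNC.Ord

open Cfsg.Agent.Lib.TC.Core Cfsg.Agent.Lib.TC.Enc Cfsg.Agent.Lib.TC.Pres Cfsg.Agent.Lib.TC.Perm
  Cfsg.Agent.Lib.TC.Main Cfsg.Agent.Lib.TC.Chain Cfsg.Agent.Lib.TC.G.HN Cfsg.Agent.Lib.TC.HNA

set_option maxRecDepth 100000

/-- The first bound. -/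
noncomputable def AA : Subgroup (PresentedGroup Rel) := Subgroup.closure ({e 2, aa} : Set (PresentedGroup Rel))

/-- The group of the first two generators. -/
noncomputable def UU : Subgroup (PresentedGroup Rel) := Lt e [0,1,2,3]

theorem e_mem_UU {c : Nat} (hc : c ∈ [0,1,2,3]) : e c ∈ UU :=
  Subgroup.subset_closure ⟨c, hc, rfl⟩

theorem AA_le : AA ≤ UU := by
  apply (Subgroup.closure_le _).2
  rintro _ (rfl | h)
  · exact e_mem_UU (by decide)
  · rw [Set.mem_singleton_iff] at h
    subst h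
    exact UU.mul_mem (e_mem_UU (by decide)) (e_mem_UU (by decide))

theorem card_AA : Nat.card AA ≤ 12 ∧ Nat.card AA ≠ 0 := by
  apply card_closure_pair_le
  · have h : prodA e [2,2,2,2,2,2] = 1 := rone (by decide)
    simpa [pow_succ, mul_assoc] using h
  · rw [pow_two]
    exact aa_sq
  · exact aa_comm [2] (by decide) |> fun h => by simpa using h

theorem hinv4 (inv' : Nat → Nat) (hi : inv' = fun c => [1,0,3,2].getD c 0) :
    ∀ c, c < ([0,1,2,3] : List Nat).length →
    inv' c < ([0,1,2,3] : List Nat).length ∧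
      e (([0,1,2,3] : List Nat).getD (inv' c) 0) = (e (([0,1,2,3] : List Nat).getD c 0))⁻¹ := by
  subst hi
  intro c hc
  have hc' : c < 4 := hc
  interval_cases c
  · exact ⟨by decide, e1⟩
  · exact ⟨by decide, by change e 0 = (e 1)⁻¹; rw [e1, inv_inv]⟩
  · exact ⟨by decide, e3⟩
  · exact ⟨by decide, by change e 2 = (e 3)⁻¹; rw [e3, inv_inv]⟩

theorem hmap4 (l : List Nat) (h : ∀ z ∈ l, z < 4) : l.map (fun z => ([0,1,2,3] : List Nat).getD z 0) = l := by
  induction l with
  | nil => rfl
  | cons z l ih =>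
    rw [List.map_cons, ih (fun y hy => h y (by simp [hy]))]
    have hz := h z (by simp)
    congr 1
    interval_cases z <;> rfl

theorem hrelOf (l : List Nat) (h1 : l.all (fun z => decide (z < 4)) = true) (h2 : prodA e l = 1) :
    (∀ z ∈ l, z < ([0,1,2,3] : List Nat).length) ∧
      prodA e (l.map fun z => ([0,1,2,3] : List Nat).getD z 0) = 1 := by
  have h3 : ∀ z ∈ l, z < 4 := by
    intro z hz
    simpa using List.all_eq_true.1 h1 z hz
  refine ⟨h3, ?_⟩
  rw [hmap4 l h3]
  exact h2

theorem hsubOf {l : List Nat} (h1 : l.all (fun z => decide (z < 4)) = true) (h2 : prodA e l ∈ AA) :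
    (∀ z ∈ l, z < ([0,1,2,3] : List Nat).length) ∧
      prodA e (l.map fun z => ([0,1,2,3] : List Nat).getD z 0) ∈ AA := by
  have h3 : ∀ z ∈ l, z < 4 := by
    intro z hz
    simpa using List.all_eq_true.1 h1 z hz
  refine ⟨h3, ?_⟩
  rw [hmap4 l h3]
  exact h2

theorem x4 : prodA e [0,0,0,0] = 1 := by
  have h := aa_sq
  simp only [aa] at h
  simpa [mul_assoc] using h

theorem hsub_AA : ∀ l ∈ ([[2],[0,0]] : List (List Nat)), (∀ z ∈ l, z < ([0,1,2,3] : List Nat).length) ∧
      prodA e (l.map fun z => ([0,1,2,3] : List Nat).getD z 0) ∈ AA := by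
  intro l hl
  simp only [List.mem_cons, List.not_mem_nil, or_false] at hl
  rcases hl with rfl | rfl
  · apply hsubOf (by decide)
    have : e 2 ∈ AA := Subgroup.subset_closure (by simp)
    simpa using this
  · apply hsubOf (by decide)
    have : aa ∈ AA := Subgroup.subset_closure (by simp)
    simpa [aa] using this

theorem card_UU3 : Nat.card UU ≠ 0 ∧ Nat.card UU ≤ 12 * 126000 := by
  have h := stage_words e [0,1,2,3] S2_Tab.inv' S2_Tab.rels' S2_Tab.subs' S2_Tab.witT.get S2_Tab.cert AA AA_le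
    (by decide)
    (hinv4 _ rfl)
    (by
      intro l hl
      simp only [S2_Tab.rels', List.mem_cons, List.not_mem_nil, or_false] at hl
      rcases hl with rfl | rfl | rfl | rfl | rfl | rfl | rfl
      · exact hrelOf _ (by decide) (rone (by decide))
      · exact hrelOf _ (by decide) (rone (by decide))
      · exact hrelOf _ (by decide) (rone (by decide))
      · exact hrelOf _ (by decide) (rone (by decide))
      · exact hrelOf _ (by decide) (rone (by decide))
      · exact hrelOf _ (by decide) (rone (by decide))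
      · exact hrelOf _ (by decide) x4)
    hsub_AA S2.h1 S2.h2 S2.hchecked
  rw [S2.hcount] at h
  obtain ⟨h1, h2, h3⟩ := h
  have h4 : Nat.card UU = Nat.card AA * AA.relIndex UU := h1
  have h5 := card_AA
  rw [h4]
  exact ⟨Nat.mul_ne_zero h5.2 h2, Nat.mul_le_mul h5.1 h3⟩

/-- The second bound. -/
theorem card_UU (hcc : cc * cc = 1) : Nat.card UU ≠ 0 ∧ Nat.card UU ≤ 12 * 42000 := by
  have hcw : prodA e (CW ++ CW) = 1 := by
    rw [prodA_append]
    exact hcc
  have h := stage_words e [0,1,2,3] S3_Tab.inv' S3_Tab.rels' S3_Tab.subs' S3_Tab.witT.get S3_Tab.cert AA AA_le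
    (by decide)
    (hinv4 _ rfl)
    (by
      intro l hl
      simp only [S3_Tab.rels', List.mem_cons, List.not_mem_nil, or_false] at hl
      rcases hl with rfl | rfl | rfl | rfl | rfl | rfl | rfl | rfl
      · exact hrelOf _ (by decide) (rone (by decide))
      · exact hrelOf _ (by decide) (rone (by decide))
      · exact hrelOf _ (by decide) (rone (by decide))
      · exact hrelOf _ (by decide) (rone (by decide))
      · exact hrelOf _ (by decide) (rone (by decide))
      · exact hrelOf _ (by decide) (rone (by decide))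
      · exact hrelOf _ (by decide) x4
      · exact hrelOf _ (by decide) hcw)
    hsub_AA S3.h1 S3.h2 S3.hchecked
  rw [S3.hcount] at h
  obtain ⟨h1, h2, h3⟩ := h
  have h4 : Nat.card UU = Nat.card AA * AA.relIndex UU := h1
  have h5 := card_AA
  rw [h4]
  exact ⟨Nat.mul_ne_zero h5.2 h2, Nat.mul_le_mul h5.1 h3⟩

theorem card_KK_of {B : Nat} (hb : Nat.card UU ≠ 0 ∧ Nat.card UU ≤ B) :
    Nat.card KK ≠ 0 ∧ Nat.card KK ≤ B * 352 :=
  bound_up S1.stage hb

theorem card_KK3 : Nat.card KK ≠ 0 ∧ Nat.card KK ≤ 3 * 177408000 := by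
  have h := card_KK_of card_UU3
  refine ⟨h.1, le_trans h.2 (by norm_num)⟩

theorem card_KK (hcc : cc * cc = 1) : Nat.card KK ≠ 0 ∧ Nat.card KK ≤ 177408000 := by
  have h := card_KK_of (card_UU hcc)
  refine ⟨h.1, le_trans h.2 (by norm_num)⟩

end Cfsg.Agent.Lib.TC.D.HNC.Ord
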