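import Cfsg.Agent.Lib.TC.D.HNC.X_Tab

namespace Cfsg.Agent.Lib.TC.D.HNC.X

open Cfsg.Agent.Lib.TC.Core Cfsg.Agent.Lib.TC.Enc Cfsg.Agent.Lib.TC.Pres Cfsg.Agent.Lib.TC.Perm Cfsg.Agent.Lib.TC.Main Cfsg.Agent.Lib.TC.Chain

set_option maxRecDepth 100000

open Cfsg.Agent.Lib.TC.D.HNC.X_Tab Cfsg.Agent.Lib.TC.G.HN

theorem hC : cert.chkRange 0 67 = true := by decide +kernel

theorem hFinal : cert.chkFinal 0 67 = true := by decide +kernel

theorem h0 : cert.eLvl (cert.par (cert.find cert.MAX cert.D 0)) = cert.MAX := by decide +kernel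

theorem hcount : cert.countRoots cert.N = 1 := by
  rw [countRoots_eq_acc]
  decide +kernel

theorem hchecked : Checked cert where
  hN := by decide
  hC := hC
  hF := hFinal
  h0 := h0

theorem hcl : Subgroup.normalClosure ({prodA (K.E Rel) xw} : Set (PresentedGroup Rel)) = ⊤ :=
  normalClosure_top_of_cols valid hrels xw (by decide +kernel) cert witT.get (by decide)
    (by decide +kernel) (by decide +kernel) hchecked hcount

end Cfsg.Agent.Lib.TC.D.HNC.X
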