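import Cfsg.Agent.Lib.TC.D.HNC.S1_Tab
import Cfsg.Agent.Lib.TC.D.HNC.S1_C0
import Cfsg.Agent.Lib.TC.D.HNC.S1_C1
import Cfsg.Agent.Lib.TC.D.HNC.S1_C2
import Cfsg.Agent.Lib.TC.D.HNC.S1_C3
import Cfsg.Agent.Lib.TC.D.HNC.S1_C4
import Cfsg.Agent.Lib.TC.D.HNC.S1_C5
import Cfsg.Agent.Lib.TC.D.HNC.S1_C6
import Cfsg.Agent.Lib.TC.D.HNC.S1_C7
import Cfsg.Agent.Lib.TC.D.HNC.S1_C8
import Cfsg.Agent.Lib.TC.D.HNC.S1_C9
import Cfsg.Agent.Lib.TC.D.HNC.S1_C10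
import Cfsg.Agent.Lib.TC.D.HNC.S1_F0
import Cfsg.Agent.Lib.TC.D.HNC.S1_F1
import Cfsg.Agent.Lib.TC.D.HNC.S1_F2
import Cfsg.Agent.Lib.TC.D.HNC.S1_F3

namespace Cfsg.Agent.Lib.TC.D.HNC.S1

open Cfsg.Agent.Lib.TC.Core Cfsg.Agent.Lib.TC.Enc Cfsg.Agent.Lib.TC.Pres Cfsg.Agent.Lib.TC.Perm Cfsg.Agent.Lib.TC.Main Cfsg.Agent.Lib.TC.Chain

set_option maxRecDepth 100000

open Cfsg.Agent.Lib.TC.D.HNC.S1_Tab Cfsg.Agent.Lib.TC.G.HN

theorem allC0 : cert.chkRange 0 8308 = true := Cfsg.Agent.Lib.TC.D.HNC.S1_C0.ok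
theorem allC1 : cert.chkRange 0 16895 = true := Cert.chkRange_join (lo := 0) (a := 8308) (b := 8587) _ allC0 Cfsg.Agent.Lib.TC.D.HNC.S1_C1.ok
theorem allC2 : cert.chkRange 0 25709 = true := Cert.chkRange_join (lo := 0) (a := 16895) (b := 8814) _ allC1 Cfsg.Agent.Lib.TC.D.HNC.S1_C2.ok
theorem allC3 : cert.chkRange 0 34697 = true := Cert.chkRange_join (lo := 0) (a := 25709) (b := 8988) _ allC2 Cfsg.Agent.Lib.TC.D.HNC.S1_C3.ok
theorem allC4 : cert.chkRange 0 43705 = true := Cert.chkRange_join (lo := 0) (a := 34697) (b := 9008) _ allC3 Cfsg.Agent.Lib.TC.D.HNC.S1_C4.ok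
theorem allC5 : cert.chkRange 0 52830 = true := Cert.chkRange_join (lo := 0) (a := 43705) (b := 9125) _ allC4 Cfsg.Agent.Lib.TC.D.HNC.S1_C5.ok
theorem allC6 : cert.chkRange 0 61833 = true := Cert.chkRange_join (lo := 0) (a := 52830) (b := 9003) _ allC5 Cfsg.Agent.Lib.TC.D.HNC.S1_C6.ok
theorem allC7 : cert.chkRange 0 70950 = true := Cert.chkRange_join (lo := 0) (a := 61833) (b := 9117) _ allC6 Cfsg.Agent.Lib.TC.D.HNC.S1_C7.ok
theorem allC8 : cert.chkRange 0 79691 = true := Cert.chkRange_join (lo := 0) (a := 70950) (b := 8741) _ allC7 Cfsg.Agent.Lib.TC.D.HNC.S1_C8.ok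
theorem allC9 : cert.chkRange 0 88671 = true := Cert.chkRange_join (lo := 0) (a := 79691) (b := 8980) _ allC8 Cfsg.Agent.Lib.TC.D.HNC.S1_C9.ok
theorem allC10 : cert.chkRange 0 93848 = true := Cert.chkRange_join (lo := 0) (a := 88671) (b := 5177) _ allC9 Cfsg.Agent.Lib.TC.D.HNC.S1_C10.ok

theorem allF0 : cert.chkFinal 0 30000 = true := Cfsg.Agent.Lib.TC.D.HNC.S1_F0.ok
theorem allF1 : cert.chkFinal 0 60000 = true := Cert.chkFinal_join (lo := 0) (a := 30000) (b := 30000) _ allF0 Cfsg.Agent.Lib.TC.D.HNC.S1_F1.ok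
theorem allF2 : cert.chkFinal 0 90000 = true := Cert.chkFinal_join (lo := 0) (a := 60000) (b := 30000) _ allF1 Cfsg.Agent.Lib.TC.D.HNC.S1_F2.ok
theorem allF3 : cert.chkFinal 0 93848 = true := Cert.chkFinal_join (lo := 0) (a := 90000) (b := 3848) _ allF2 Cfsg.Agent.Lib.TC.D.HNC.S1_F3.ok

theorem hFinal : cert.chkFinal 0 93848 = true := allF3

theorem h0 : cert.eLvl (cert.par (cert.find cert.MAX cert.D 0)) = cert.MAX := by decide +kernel

theorem hcount : cert.countRoots cert.N = 352 := by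
  rw [countRoots_eq_acc]
  decide +kernel

theorem hchecked : Checked cert where
  hN := by decide
  hC := allC10
  hF := hFinal
  h0 := h0

theorem stage : Lt (K.E Rel) ls' ≤ Lt (K.E Rel) ls ∧
    Nat.card (Lt (K.E Rel) ls) = Nat.card (Lt (K.E Rel) ls') * (Lt (K.E Rel) ls').relIndex (Lt (K.E Rel) ls) ∧
    (Lt (K.E Rel) ls').relIndex (Lt (K.E Rel) ls) ≠ 0 ∧ (Lt (K.E Rel) ls').relIndex (Lt (K.E Rel) ls) ≤ 352 :=
  stage_of_cols valid hrels ls ls' inv' rels' subs' witT.get cert 352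
    (by decide +kernel) (by decide) (by decide +kernel) (by decide +kernel) (by decide +kernel) hchecked hcount

end Cfsg.Agent.Lib.TC.D.HNC.S1
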