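import Cfsg.Agent.Lib.TC.G.HN
import Cfsg.Agent.Lib.TC.Chain
import Cfsg.Agent.Lib.TC.D.HNC.S1_T0
import Cfsg.Agent.Lib.TC.D.HNC.S1_T1

namespace Cfsg.Agent.Lib.TC.D.HNC.S1_Tab

open Cfsg.Agent.Lib.TC.Core Cfsg.Agent.Lib.TC.Enc Cfsg.Agent.Lib.TC.Pres Cfsg.Agent.Lib.TC.Perm Cfsg.Agent.Lib.TC.Main Cfsg.Agent.Lib.TC.Chain

set_option maxRecDepth 100000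

/-- The chunks of the certificate. -/
noncomputable def ctree : Tr Nat := (Tr.node Cfsg.Agent.Lib.TC.D.HNC.S1_T0.tree Cfsg.Agent.Lib.TC.D.HNC.S1_T1.tree)

/-- The relator rotations. -/
noncomputable def rotT : Tr (List Nat) := (Tr.node (Tr.node (Tr.node (Tr.node (Tr.node (Tr.node (Tr.node (Tr.node (Tr.leaf [])
 (Tr.leaf [3,1,3,0,2,0,2,0,2,2,2,4,3,3,3,1,3,1,3,0,2,0,2,0,2,2,2,4,3,3,3,1,3,1,3,4,0,2,0,2,0,2,2,2,4,3,3,3,1]))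
 (Tr.node (Tr.leaf [1,3,0,2,2,0,2,0,2,4,3,1,3,1,3,3,1,2,4,1])
 (Tr.leaf [3,1,3,4,0,2,0,2,0,2,2,2,4,3,3,3,1,3,1,3,0,2,0,2,0,2,2,2,4,3,3,3,1,3,1,3,0,2,0,2,0,2,2,2,4,3,3,3,1])))
 (Tr.node (Tr.node (Tr.leaf [2,0,2,2,1,2,2,2,0,2,2,1,2,2,2,0,2,2,1,2,2])
 (Tr.leaf [3,1,3,0,2,0,2,0,2,2,2,4,3,3,3,1,3,1,3,4,0,2,0,2,0,2,2,2,4,3,3,3,1,3,1,3,0,2,0,2,0,2,2,2,4,3,3,3,1]))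
 (Tr.node (Tr.leaf [1,2,4,1,1,3,0,2,2,0,2,0,2,4,3,1,3,1,3,3])
 (Tr.leaf [1,4,2,0,2,0,2,2,2,4,3,3,3,1,3,1,3,1,2,0,2,0,2,2,2,4,3,3,3,1,3,1,3,1,2,0,2,0,2,2,2,4,3,3,3,1,3,1,3]))))
 (Tr.node (Tr.node (Tr.node (Tr.leaf [0,0,3,0,0,2])
 (Tr.leaf [2,2,2,4,3,3,3,1,3,1,3,0,2,0,2,0,2,2,2,4,3,3,3,1,3,1,3,4,0,2,0,2,0,2,2,2,4,3,3,3,1,3,1,3,0,2,0,2,0]))
 (Tr.node (Tr.leaf [2,4,3,1,3,1,3,3,1,2,4,1,1,3,0,2,2,0,2,0])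
 (Tr.leaf [1,4,2,0,2,0,2,2,2,4,3,3,3,1,3,1,3,1,2,0,2,0,2,2,2,4,3,3,3,1,3,1,3,1,2,0,2,0,2,2,2,4,3,3,3,1,3,1,3])))
 (Tr.node (Tr.node (Tr.leaf [2,2,0,2,0,2,2,2,0,2,0,2,2,2,0,2,0,2,2,2,0,2,0,2])
 (Tr.leaf [2,2,2,4,3,3,3,1,3,1,3,4,0,2,0,2,0,2,2,2,4,3,3,3,1,3,1,3,0,2,0,2,0,2,2,2,4,3,3,3,1,3,1,3,0,2,0,2,0]))
 (Tr.node (Tr.leaf [2,2,2,4,3,3,3,1,3,1,3,0,2,0,2,0,2,2,2,4,3,3,3,1,3,1,3,0,2,0,2,0,2,2,2,4,3,3,3,1,3,1,3,4,0,2,0,2,0])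
 (Tr.leaf [1,4,2,0,2,0,2,2,2,4,3,3,3,1,3,1,3,1,2,0,2,0,2,2,2,4,3,3,3,1,3,1,3,1,2,0,2,0,2,2,2,4,3,3,3,1,3,1,3])))))
 (Tr.node (Tr.node (Tr.node (Tr.node (Tr.leaf [3,0,0,2,0,0])
 (Tr.leaf [2,0,2,0,2,2,2,4,3,3,3,1,3,1,3,0,2,0,2,0,2,2,2,4,3,3,3,1,3,1,3,4,0,2,0,2,0,2,2,2,4,3,3,3,1,3,1,3,0]))
 (Tr.node (Tr.leaf [2,0,2,0,2,4,3,1,3,1,3,3,1,2,4,1,1,3,0,2])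
 (Tr.leaf [1,4,2,0,2,0,2,2,2,4,3,3,3,1,3,1,3,1,2,0,2,0,2,2,2,4,3,3,3,1,3,1,3,1,2,0,2,0,2,2,2,4,3,3,3,1,3,1,3])))
 (Tr.node (Tr.node (Tr.leaf [1,2,2,2,0,2,2,1,2,2,2,0,2,2,1,2,2,2,0,2,2])
 (Tr.leaf [2,0,2,0,2,2,2,4,3,3,3,1,3,1,3,4,0,2,0,2,0,2,2,2,4,3,3,3,1,3,1,3,0,2,0,2,0,2,2,2,4,3,3,3,1,3,1,3,0]))
 (Tr.node (Tr.leaf [2,0,2,0,2,2,2,4,3,3,3,1,3,1,3,0,2,0,2,0,2,2,2,4,3,3,3,1,3,1,3,0,2,0,2,0,2,2,2,4,3,3,3,1,3,1,3,4,0])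
 (Tr.leaf [1,4,2,0,2,0,2,2,2,4,3,3,3,1,3,1,3,1,2,0,2,0,2,2,2,4,3,3,3,1,3,1,3,1,2,0,2,0,2,2,2,4,3,3,3,1,3,1,3]))))
 (Tr.node (Tr.node (Tr.node (Tr.leaf [3,1,2,0,3,1,2,0,3,1,2,0])
 (Tr.leaf [3,3,3,1,3,1,3,0,2,0,2,0,2,2,2,4,3,3,3,1,3,1,3,4,0,2,0,2,0,2,2,2,4,3,3,3,1,3,1,3,0,2,0,2,0,2,2,2,4]))
 (Tr.node (Tr.leaf [3,1,3,3,1,2,4,1,1,3,0,2,2,0,2,0,2,4,3,1])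
 (Tr.leaf [1,4,2,0,2,0,2,2,2,4,3,3,3,1,3,1,3,1,2,0,2,0,2,2,2,4,3,3,3,1,3,1,3,1,2,0,2,0,2,2,2,4,3,3,3,1,3,1,3])))
 (Tr.node (Tr.node (Tr.leaf [0,2,2,2,0,2,0,2,2,2,0,2,0,2,2,2,0,2,0,2,2,2,0,2])
 (Tr.leaf [3,3,3,1,3,1,3,4,0,2,0,2,0,2,2,2,4,3,3,3,1,3,1,3,0,2,0,2,0,2,2,2,4,3,3,3,1,3,1,3,0,2,0,2,0,2,2,2,4]))
 (Tr.node (Tr.leaf [3,3,3,1,3,1,3,0,2,0,2,0,2,2,2,4,3,3,3,1,3,1,3,0,2,0,2,0,2,2,2,4,3,3,3,1,3,1,3,4,0,2,0,2,0,2,2,2,4])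
 (Tr.leaf [1,4,2,0,2,0,2,2,2,4,3,3,3,1,3,1,3,1,2,0,2,0,2,2,2,4,3,3,3,1,3,1,3,1,2,0,2,0,2,2,2,4,3,3,3,1,3,1,3]))))))
 (Tr.node (Tr.node (Tr.node (Tr.node (Tr.node (Tr.leaf [3,2])
 (Tr.leaf [3,0,2,0,2,0,2,2,2,4,3,3,3,1,3,1,3,0,2,0,2,0,2,2,2,4,3,3,3,1,3,1,3,4,0,2,0,2,0,2,2,2,4,3,3,3,1,3,1]))
 (Tr.node (Tr.leaf [0,2,2,0,2,0,2,4,3,1,3,1,3,3,1,2,4,1,1,3])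
 (Tr.leaf [3,4,0,2,0,2,0,2,2,2,4,3,3,3,1,3,1,3,0,2,0,2,0,2,2,2,4,3,3,3,1,3,1,3,0,2,0,2,0,2,2,2,4,3,3,3,1,3,1])))
 (Tr.node (Tr.node (Tr.leaf [2,2,1,2,2,2,0,2,2,1,2,2,2,0,2,2,1,2,2,2,0])
 (Tr.leaf [3,0,2,0,2,0,2,2,2,4,3,3,3,1,3,1,3,4,0,2,0,2,0,2,2,2,4,3,3,3,1,3,1,3,0,2,0,2,0,2,2,2,4,3,3,3,1,3,1]))
 (Tr.node (Tr.leaf [4,1,1,3,0,2,2,0,2,0,2,4,3,1,3,1,3,3,1,2])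
 (Tr.leaf [1,4,2,0,2,0,2,2,2,4,3,3,3,1,3,1,3,1,2,0,2,0,2,2,2,4,3,3,3,1,3,1,3,1,2,0,2,0,2,2,2,4,3,3,3,1,3,1,3]))))
 (Tr.node (Tr.node (Tr.node (Tr.leaf [2,0,3,1,2,0,3,1,2,0,3,1])
 (Tr.leaf [2,4,3,3,3,1,3,1,3,0,2,0,2,0,2,2,2,4,3,3,3,1,3,1,3,4,0,2,0,2,0,2,2,2,4,3,3,3,1,3,1,3,0,2,0,2,0,2,2]))
 (Tr.node (Tr.leaf [3,1,3,1,3,3,1,2,4,1,1,3,0,2,2,0,2,0,2,4])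
 (Tr.leaf [1,4,2,0,2,0,2,2,2,4,3,3,3,1,3,1,3,1,2,0,2,0,2,2,2,4,3,3,3,1,3,1,3,1,2,0,2,0,2,2,2,4,3,3,3,1,3,1,3])))
 (Tr.node (Tr.node (Tr.leaf [0,2,0,2,2,2,0,2,0,2,2,2,0,2,0,2,2,2,0,2,0,2,2,2])
 (Tr.leaf [2,4,3,3,3,1,3,1,3,4,0,2,0,2,0,2,2,2,4,3,3,3,1,3,1,3,0,2,0,2,0,2,2,2,4,3,3,3,1,3,1,3,0,2,0,2,0,2,2]))
 (Tr.node (Tr.leaf [2,4,3,3,3,1,3,1,3,0,2,0,2,0,2,2,2,4,3,3,3,1,3,1,3,0,2,0,2,0,2,2,2,4,3,3,3,1,3,1,3,4,0,2,0,2,0,2,2])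
 (Tr.leaf [1,4,2,0,2,0,2,2,2,4,3,3,3,1,3,1,3,1,2,0,2,0,2,2,2,4,3,3,3,1,3,1,3,1,2,0,2,0,2,2,2,4,3,3,3,1,3,1,3])))))
 (Tr.node (Tr.node (Tr.node (Tr.node (Tr.leaf [0,2,0,0,3,0])
 (Tr.leaf [2,0,2,2,2,4,3,3,3,1,3,1,3,0,2,0,2,0,2,2,2,4,3,3,3,1,3,1,3,4,0,2,0,2,0,2,2,2,4,3,3,3,1,3,1,3,0,2,0]))
 (Tr.node (Tr.leaf [2,0,2,4,3,1,3,1,3,3,1,2,4,1,1,3,0,2,2,0])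
 (Tr.leaf [1,4,2,0,2,0,2,2,2,4,3,3,3,1,3,1,3,1,2,0,2,0,2,2,2,4,3,3,3,1,3,1,3,1,2,0,2,0,2,2,2,4,3,3,3,1,3,1,3])))
 (Tr.node (Tr.node (Tr.leaf [0,2,0,2,0,2,0,2,0,2,0,2,0,2,0,2])
 (Tr.leaf [2,0,2,2,2,4,3,3,3,1,3,1,3,4,0,2,0,2,0,2,2,2,4,3,3,3,1,3,1,3,0,2,0,2,0,2,2,2,4,3,3,3,1,3,1,3,0,2,0]))
 (Tr.node (Tr.leaf [2,0,2,2,2,4,3,3,3,1,3,1,3,0,2,0,2,0,2,2,2,4,3,3,3,1,3,1,3,0,2,0,2,0,2,2,2,4,3,3,3,1,3,1,3,4,0,2,0])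
 (Tr.leaf [1,4,2,0,2,0,2,2,2,4,3,3,3,1,3,1,3,1,2,0,2,0,2,2,2,4,3,3,3,1,3,1,3,1,2,0,2,0,2,2,2,4,3,3,3,1,3,1,3]))))
 (Tr.node (Tr.node (Tr.node (Tr.leaf [2,2,2,0,2,2,1,2,2,2,0,2,2,1,2,2,2,0,2,2,1])
 (Tr.leaf [3,1,3,1,3,0,2,0,2,0,2,2,2,4,3,3,3,1,3,1,3,4,0,2,0,2,0,2,2,2,4,3,3,3,1,3,1,3,0,2,0,2,0,2,2,2,4,3,3]))
 (Tr.node (Tr.leaf [3,3,1,2,4,1,1,3,0,2,2,0,2,0,2,4,3,1,3,1])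
 (Tr.leaf [1,4,2,0,2,0,2,2,2,4,3,3,3,1,3,1,3,1,2,0,2,0,2,2,2,4,3,3,3,1,3,1,3,1,2,0,2,0,2,2,2,4,3,3,3,1,3,1,3])))
 (Tr.node (Tr.node (Tr.leaf [4,0,4,0])
 (Tr.leaf [3,1,3,1,3,4,0,2,0,2,0,2,2,2,4,3,3,3,1,3,1,3,0,2,0,2,0,2,2,2,4,3,3,3,1,3,1,3,0,2,0,2,0,2,2,2,4,3,3]))
 (Tr.node (Tr.leaf [3,1,3,1,3,0,2,0,2,0,2,2,2,4,3,3,3,1,3,1,3,0,2,0,2,0,2,2,2,4,3,3,3,1,3,1,3,4,0,2,0,2,0,2,2,2,4,3,3])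
 (Tr.leaf [1,4,2,0,2,0,2,2,2,4,3,3,3,1,3,1,3,1,2,0,2,0,2,2,2,4,3,3,3,1,3,1,3,1,2,0,2,0,2,2,2,4,3,3,3,1,3,1,3])))))))
 (Tr.node (Tr.node (Tr.node (Tr.node (Tr.node (Tr.node (Tr.leaf [1,0])
 (Tr.leaf [1,3,0,2,0,2,0,2,2,2,4,3,3,3,1,3,1,3,0,2,0,2,0,2,2,2,4,3,3,3,1,3,1,3,4,0,2,0,2,0,2,2,2,4,3,3,3,1,3]))
 (Tr.node (Tr.leaf [3,0,2,2,0,2,0,2,4,3,1,3,1,3,3,1,2,4,1,1])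
 (Tr.leaf [1,3,4,0,2,0,2,0,2,2,2,4,3,3,3,1,3,1,3,0,2,0,2,0,2,2,2,4,3,3,3,1,3,1,3,0,2,0,2,0,2,2,2,4,3,3,3,1,3])))
 (Tr.node (Tr.node (Tr.leaf [0,2,2,1,2,2,2,0,2,2,1,2,2,2,0,2,2,1,2,2,2])
 (Tr.leaf [1,3,0,2,0,2,0,2,2,2,4,3,3,3,1,3,1,3,4,0,2,0,2,0,2,2,2,4,3,3,3,1,3,1,3,0,2,0,2,0,2,2,2,4,3,3,3,1,3]))
 (Tr.node (Tr.leaf [2,4,1,1,3,0,2,2,0,2,0,2,4,3,1,3,1,3,3,1])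
 (Tr.leaf [1,4,2,0,2,0,2,2,2,4,3,3,3,1,3,1,3,1,2,0,2,0,2,2,2,4,3,3,3,1,3,1,3,1,2,0,2,0,2,2,2,4,3,3,3,1,3,1,3]))))
 (Tr.node (Tr.node (Tr.node (Tr.leaf [0,3,0,0,2,0])
 (Tr.leaf [2,2,4,3,3,3,1,3,1,3,0,2,0,2,0,2,2,2,4,3,3,3,1,3,1,3,4,0,2,0,2,0,2,2,2,4,3,3,3,1,3,1,3,0,2,0,2,0,2]))
 (Tr.node (Tr.leaf [4,3,1,3,1,3,3,1,2,4,1,1,3,0,2,2,0,2,0,2])
 (Tr.leaf [1,4,2,0,2,0,2,2,2,4,3,3,3,1,3,1,3,1,2,0,2,0,2,2,2,4,3,3,3,1,3,1,3,1,2,0,2,0,2,2,2,4,3,3,3,1,3,1,3])))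
 (Tr.node (Tr.node (Tr.leaf [2,0,2,0,2,2,2,0,2,0,2,2,2,0,2,0,2,2,2,0,2,0,2,2])
 (Tr.leaf [2,2,4,3,3,3,1,3,1,3,4,0,2,0,2,0,2,2,2,4,3,3,3,1,3,1,3,0,2,0,2,0,2,2,2,4,3,3,3,1,3,1,3,0,2,0,2,0,2]))
 (Tr.node (Tr.leaf [2,2,4,3,3,3,1,3,1,3,0,2,0,2,0,2,2,2,4,3,3,3,1,3,1,3,0,2,0,2,0,2,2,2,4,3,3,3,1,3,1,3,4,0,2,0,2,0,2])
 (Tr.leaf [1,4,2,0,2,0,2,2,2,4,3,3,3,1,3,1,3,1,2,0,2,0,2,2,2,4,3,3,3,1,3,1,3,1,2,0,2,0,2,2,2,4,3,3,3,1,3,1,3])))))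
 (Tr.node (Tr.node (Tr.node (Tr.node (Tr.leaf [0,0,2,0,0,3])
 (Tr.leaf [0,2,0,2,2,2,4,3,3,3,1,3,1,3,0,2,0,2,0,2,2,2,4,3,3,3,1,3,1,3,4,0,2,0,2,0,2,2,2,4,3,3,3,1,3,1,3,0,2]))
 (Tr.node (Tr.leaf [0,2,0,2,4,3,1,3,1,3,3,1,2,4,1,1,3,0,2,2])
 (Tr.leaf [1,4,2,0,2,0,2,2,2,4,3,3,3,1,3,1,3,1,2,0,2,0,2,2,2,4,3,3,3,1,3,1,3,1,2,0,2,0,2,2,2,4,3,3,3,1,3,1,3])))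
 (Tr.node (Tr.node (Tr.leaf [2,0,2,0,2,0,2,0,2,0,2,0,2,0,2,0])
 (Tr.leaf [0,2,0,2,2,2,4,3,3,3,1,3,1,3,4,0,2,0,2,0,2,2,2,4,3,3,3,1,3,1,3,0,2,0,2,0,2,2,2,4,3,3,3,1,3,1,3,0,2]))
 (Tr.node (Tr.leaf [0,2,0,2,2,2,4,3,3,3,1,3,1,3,0,2,0,2,0,2,2,2,4,3,3,3,1,3,1,3,0,2,0,2,0,2,2,2,4,3,3,3,1,3,1,3,4,0,2])
 (Tr.leaf [1,4,2,0,2,0,2,2,2,4,3,3,3,1,3,1,3,1,2,0,2,0,2,2,2,4,3,3,3,1,3,1,3,1,2,0,2,0,2,2,2,4,3,3,3,1,3,1,3]))))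
 (Tr.node (Tr.node (Tr.node (Tr.leaf [1,2,0,3,1,2,0,3,1,2,0,3])
 (Tr.leaf [3,3,1,3,1,3,0,2,0,2,0,2,2,2,4,3,3,3,1,3,1,3,4,0,2,0,2,0,2,2,2,4,3,3,3,1,3,1,3,0,2,0,2,0,2,2,2,4,3]))
 (Tr.node (Tr.leaf [1,3,3,1,2,4,1,1,3,0,2,2,0,2,0,2,4,3,1,3])
 (Tr.leaf [1,4,2,0,2,0,2,2,2,4,3,3,3,1,3,1,3,1,2,0,2,0,2,2,2,4,3,3,3,1,3,1,3,1,2,0,2,0,2,2,2,4,3,3,3,1,3,1,3])))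
 (Tr.node (Tr.node (Tr.leaf [0,4,0,4])
 (Tr.leaf [3,3,1,3,1,3,4,0,2,0,2,0,2,2,2,4,3,3,3,1,3,1,3,0,2,0,2,0,2,2,2,4,3,3,3,1,3,1,3,0,2,0,2,0,2,2,2,4,3]))
 (Tr.node (Tr.leaf [3,3,1,3,1,3,0,2,0,2,0,2,2,2,4,3,3,3,1,3,1,3,0,2,0,2,0,2,2,2,4,3,3,3,1,3,1,3,4,0,2,0,2,0,2,2,2,4,3])
 (Tr.leaf [1,4,2,0,2,0,2,2,2,4,3,3,3,1,3,1,3,1,2,0,2,0,2,2,2,4,3,3,3,1,3,1,3,1,2,0,2,0,2,2,2,4,3,3,3,1,3,1,3]))))))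
 (Tr.node (Tr.node (Tr.node (Tr.node (Tr.node (Tr.leaf [2,2,2,2,2,2])
 (Tr.leaf [0,2,0,2,0,2,2,2,4,3,3,3,1,3,1,3,0,2,0,2,0,2,2,2,4,3,3,3,1,3,1,3,4,0,2,0,2,0,2,2,2,4,3,3,3,1,3,1,3]))
 (Tr.node (Tr.leaf [2,2,0,2,0,2,4,3,1,3,1,3,3,1,2,4,1,1,3,0])
 (Tr.leaf [4,0,2,0,2,0,2,2,2,4,3,3,3,1,3,1,3,0,2,0,2,0,2,2,2,4,3,3,3,1,3,1,3,0,2,0,2,0,2,2,2,4,3,3,3,1,3,1,3])))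
 (Tr.node (Tr.node (Tr.leaf [2,1,2,2,2,0,2,2,1,2,2,2,0,2,2,1,2,2,2,0,2])
 (Tr.leaf [0,2,0,2,0,2,2,2,4,3,3,3,1,3,1,3,4,0,2,0,2,0,2,2,2,4,3,3,3,1,3,1,3,0,2,0,2,0,2,2,2,4,3,3,3,1,3,1,3]))
 (Tr.node (Tr.leaf [0,2,0,2,0,2,2,2,4,3,3,3,1,3,1,3,0,2,0,2,0,2,2,2,4,3,3,3,1,3,1,3,0,2,0,2,0,2,2,2,4,3,3,3,1,3,1,3,4])
 (Tr.leaf [1,4,2,0,2,0,2,2,2,4,3,3,3,1,3,1,3,1,2,0,2,0,2,2,2,4,3,3,3,1,3,1,3,1,2,0,2,0,2,2,2,4,3,3,3,1,3,1,3]))))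
 (Tr.node (Tr.node (Tr.node (Tr.leaf [0,3,1,2,0,3,1,2,0,3,1,2])
 (Tr.leaf [4,3,3,3,1,3,1,3,0,2,0,2,0,2,2,2,4,3,3,3,1,3,1,3,4,0,2,0,2,0,2,2,2,4,3,3,3,1,3,1,3,0,2,0,2,0,2,2,2]))
 (Tr.node (Tr.leaf [1,3,1,3,3,1,2,4,1,1,3,0,2,2,0,2,0,2,4,3])
 (Tr.leaf [1,4,2,0,2,0,2,2,2,4,3,3,3,1,3,1,3,1,2,0,2,0,2,2,2,4,3,3,3,1,3,1,3,1,2,0,2,0,2,2,2,4,3,3,3,1,3,1,3])))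
 (Tr.node (Tr.node (Tr.leaf [2,0,2,2,2,0,2,0,2,2,2,0,2,0,2,2,2,0,2,0,2,2,2,0])
 (Tr.leaf [4,3,3,3,1,3,1,3,4,0,2,0,2,0,2,2,2,4,3,3,3,1,3,1,3,0,2,0,2,0,2,2,2,4,3,3,3,1,3,1,3,0,2,0,2,0,2,2,2]))
 (Tr.node (Tr.leaf [4,3,3,3,1,3,1,3,0,2,0,2,0,2,2,2,4,3,3,3,1,3,1,3,0,2,0,2,0,2,2,2,4,3,3,3,1,3,1,3,4,0,2,0,2,0,2,2,2])
 (Tr.leaf [1,4,2,0,2,0,2,2,2,4,3,3,3,1,3,1,3,1,2,0,2,0,2,2,2,4,3,3,3,1,3,1,3,1,2,0,2,0,2,2,2,4,3,3,3,1,3,1,3])))))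
 (Tr.node (Tr.node (Tr.node (Tr.node (Tr.leaf [2,0,0,3,0,0])
 (Tr.leaf [0,2,2,2,4,3,3,3,1,3,1,3,0,2,0,2,0,2,2,2,4,3,3,3,1,3,1,3,4,0,2,0,2,0,2,2,2,4,3,3,3,1,3,1,3,0,2,0,2]))
 (Tr.node (Tr.leaf [0,2,4,3,1,3,1,3,3,1,2,4,1,1,3,0,2,2,0,2])
 (Tr.leaf [1,4,2,0,2,0,2,2,2,4,3,3,3,1,3,1,3,1,2,0,2,0,2,2,2,4,3,3,3,1,3,1,3,1,2,0,2,0,2,2,2,4,3,3,3,1,3,1,3])))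
 (Tr.node (Tr.node (Tr.leaf [2,2,2,0,2,0,2,2,2,0,2,0,2,2,2,0,2,0,2,2,2,0,2,0])
 (Tr.leaf [0,2,2,2,4,3,3,3,1,3,1,3,4,0,2,0,2,0,2,2,2,4,3,3,3,1,3,1,3,0,2,0,2,0,2,2,2,4,3,3,3,1,3,1,3,0,2,0,2]))
 (Tr.node (Tr.leaf [0,2,2,2,4,3,3,3,1,3,1,3,0,2,0,2,0,2,2,2,4,3,3,3,1,3,1,3,0,2,0,2,0,2,2,2,4,3,3,3,1,3,1,3,4,0,2,0,2])
 (Tr.leaf [1,4,2,0,2,0,2,2,2,4,3,3,3,1,3,1,3,1,2,0,2,0,2,2,2,4,3,3,3,1,3,1,3,1,2,0,2,0,2,2,2,4,3,3,3,1,3,1,3]))))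
 (Tr.node (Tr.node (Tr.node (Tr.leaf [2,2,0,2,2,1,2,2,2,0,2,2,1,2,2,2,0,2,2,1,2])
 (Tr.leaf [1,3,1,3,0,2,0,2,0,2,2,2,4,3,3,3,1,3,1,3,4,0,2,0,2,0,2,2,2,4,3,3,3,1,3,1,3,0,2,0,2,0,2,2,2,4,3,3,3]))
 (Tr.node (Tr.leaf [3,1,2,4,1,1,3,0,2,2,0,2,0,2,4,3,1,3,1,3])
 (Tr.leaf [1,4,2,0,2,0,2,2,2,4,3,3,3,1,3,1,3,1,2,0,2,0,2,2,2,4,3,3,3,1,3,1,3,1,2,0,2,0,2,2,2,4,3,3,3,1,3,1,3])))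
 (Tr.node (Tr.node (Tr.leaf [1,1,3,0,2,2,0,2,0,2,4,3,1,3,1,3,3,1,2,4])
 (Tr.leaf [1,3,1,3,4,0,2,0,2,0,2,2,2,4,3,3,3,1,3,1,3,0,2,0,2,0,2,2,2,4,3,3,3,1,3,1,3,0,2,0,2,0,2,2,2,4,3,3,3]))
 (Tr.node (Tr.leaf [1,3,1,3,0,2,0,2,0,2,2,2,4,3,3,3,1,3,1,3,0,2,0,2,0,2,2,2,4,3,3,3,1,3,1,3,4,0,2,0,2,0,2,2,2,4,3,3,3])
 (Tr.leaf [1,4,2,0,2,0,2,2,2,4,3,3,3,1,3,1,3,1,2,0,2,0,2,2,2,4,3,3,3,1,3,1,3,1,2,0,2,0,2,2,2,4,3,3,3,1,3,1,3]))))))))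
 (Tr.node (Tr.node (Tr.node (Tr.node (Tr.node (Tr.node (Tr.node (Tr.leaf [0,1])
 (Tr.leaf [3,1,3,1,2,0,2,0,2,2,2,4,3,3,3,1,3,1,3,1,2,0,2,0,2,2,2,4,3,3,3,1,3,1,3,1,4,2,0,2,0,2,2,2,4,3,3,3,1]))
 (Tr.node (Tr.leaf [3,0,2,2,0,2,0,2,4,3,1,3,1,3,3,1,2,0,0,4])
 (Tr.leaf [3,1,3,1,4,2,0,2,0,2,2,2,4,3,3,3,1,3,1,3,1,2,0,2,0,2,2,2,4,3,3,3,1,3,1,3,1,2,0,2,0,2,2,2,4,3,3,3,1])))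
 (Tr.node (Tr.node (Tr.leaf [3,1,3,3,3,0,3,3,1,3,3,3,0,3,3,1,3,3,3,0,3])
 (Tr.leaf [3,1,3,1,2,0,2,0,2,2,2,4,3,3,3,1,3,1,3,1,4,2,0,2,0,2,2,2,4,3,3,3,1,3,1,3,1,2,0,2,0,2,2,2,4,3,3,3,1]))
 (Tr.node (Tr.leaf [2,0,0,4,3,0,2,2,0,2,0,2,4,3,1,3,1,3,3,1])
 (Tr.leaf [1,4,2,0,2,0,2,2,2,4,3,3,3,1,3,1,3,1,2,0,2,0,2,2,2,4,3,3,3,1,3,1,3,1,2,0,2,0,2,2,2,4,3,3,3,1,3,1,3]))))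
 (Tr.node (Tr.node (Tr.node (Tr.leaf [1,2,1,1,3,1])
 (Tr.leaf [2,2,2,4,3,3,3,1,3,1,3,1,2,0,2,0,2,2,2,4,3,3,3,1,3,1,3,1,4,2,0,2,0,2,2,2,4,3,3,3,1,3,1,3,1,2,0,2,0]))
 (Tr.node (Tr.leaf [4,3,1,3,1,3,3,1,2,0,0,4,3,0,2,2,0,2,0,2])
 (Tr.leaf [1,4,2,0,2,0,2,2,2,4,3,3,3,1,3,1,3,1,2,0,2,0,2,2,2,4,3,3,3,1,3,1,3,1,2,0,2,0,2,2,2,4,3,3,3,1,3,1,3])))
 (Tr.node (Tr.node (Tr.leaf [3,1,3,3,3,1,3,1,3,3,3,1,3,1,3,3,3,1,3,1,3,3,3,1])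
 (Tr.leaf [2,2,2,4,3,3,3,1,3,1,3,1,4,2,0,2,0,2,2,2,4,3,3,3,1,3,1,3,1,2,0,2,0,2,2,2,4,3,3,3,1,3,1,3,1,2,0,2,0]))
 (Tr.node (Tr.leaf [2,2,2,4,3,3,3,1,3,1,3,1,2,0,2,0,2,2,2,4,3,3,3,1,3,1,3,1,2,0,2,0,2,2,2,4,3,3,3,1,3,1,3,1,4,2,0,2,0])
 (Tr.leaf [1,4,2,0,2,0,2,2,2,4,3,3,3,1,3,1,3,1,2,0,2,0,2,2,2,4,3,3,3,1,3,1,3,1,2,0,2,0,2,2,2,4,3,3,3,1,3,1,3])))))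
 (Tr.node (Tr.node (Tr.node (Tr.node (Tr.leaf [1,1,3,1,1,2])
 (Tr.leaf [2,0,2,0,2,2,2,4,3,3,3,1,3,1,3,1,2,0,2,0,2,2,2,4,3,3,3,1,3,1,3,1,4,2,0,2,0,2,2,2,4,3,3,3,1,3,1,3,1]))
 (Tr.node (Tr.leaf [0,2,0,2,4,3,1,3,1,3,3,1,2,0,0,4,3,0,2,2])
 (Tr.leaf [1,4,2,0,2,0,2,2,2,4,3,3,3,1,3,1,3,1,2,0,2,0,2,2,2,4,3,3,3,1,3,1,3,1,2,0,2,0,2,2,2,4,3,3,3,1,3,1,3])))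
 (Tr.node (Tr.node (Tr.leaf [3,0,3,3,1,3,3,3,0,3,3,1,3,3,3,0,3,3,1,3,3])
 (Tr.leaf [2,0,2,0,2,2,2,4,3,3,3,1,3,1,3,1,4,2,0,2,0,2,2,2,4,3,3,3,1,3,1,3,1,2,0,2,0,2,2,2,4,3,3,3,1,3,1,3,1]))
 (Tr.node (Tr.leaf [2,0,2,0,2,2,2,4,3,3,3,1,3,1,3,1,2,0,2,0,2,2,2,4,3,3,3,1,3,1,3,1,2,0,2,0,2,2,2,4,3,3,3,1,3,1,3,1,4])
 (Tr.leaf [1,4,2,0,2,0,2,2,2,4,3,3,3,1,3,1,3,1,2,0,2,0,2,2,2,4,3,3,3,1,3,1,3,1,2,0,2,0,2,2,2,4,3,3,3,1,3,1,3]))))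
 (Tr.node (Tr.node (Tr.node (Tr.leaf [1,3,0,2,1,3,0,2,1,3,0,2])
 (Tr.leaf [3,3,3,1,3,1,3,1,2,0,2,0,2,2,2,4,3,3,3,1,3,1,3,1,4,2,0,2,0,2,2,2,4,3,3,3,1,3,1,3,1,2,0,2,0,2,2,2,4]))
 (Tr.node (Tr.leaf [1,3,3,1,2,0,0,4,3,0,2,2,0,2,0,2,4,3,1,3])
 (Tr.leaf [1,4,2,0,2,0,2,2,2,4,3,3,3,1,3,1,3,1,2,0,2,0,2,2,2,4,3,3,3,1,3,1,3,1,2,0,2,0,2,2,2,4,3,3,3,1,3,1,3])))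
 (Tr.node (Tr.node (Tr.leaf [3,1,3,1,3,3,3,1,3,1,3,3,3,1,3,1,3,3,3,1,3,1,3,3])
 (Tr.leaf [3,3,3,1,3,1,3,1,4,2,0,2,0,2,2,2,4,3,3,3,1,3,1,3,1,2,0,2,0,2,2,2,4,3,3,3,1,3,1,3,1,2,0,2,0,2,2,2,4]))
 (Tr.node (Tr.leaf [3,3,3,1,3,1,3,1,2,0,2,0,2,2,2,4,3,3,3,1,3,1,3,1,2,0,2,0,2,2,2,4,3,3,3,1,3,1,3,1,4,2,0,2,0,2,2,2,4])
 (Tr.leaf [1,4,2,0,2,0,2,2,2,4,3,3,3,1,3,1,3,1,2,0,2,0,2,2,2,4,3,3,3,1,3,1,3,1,2,0,2,0,2,2,2,4,3,3,3,1,3,1,3]))))))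
 (Tr.node (Tr.node (Tr.node (Tr.node (Tr.node (Tr.leaf [4,4])
 (Tr.leaf [3,1,2,0,2,0,2,2,2,4,3,3,3,1,3,1,3,1,2,0,2,0,2,2,2,4,3,3,3,1,3,1,3,1,4,2,0,2,0,2,2,2,4,3,3,3,1,3,1]))
 (Tr.node (Tr.leaf [2,2,0,2,0,2,4,3,1,3,1,3,3,1,2,0,0,4,3,0])
 (Tr.leaf [3,1,4,2,0,2,0,2,2,2,4,3,3,3,1,3,1,3,1,2,0,2,0,2,2,2,4,3,3,3,1,3,1,3,1,2,0,2,0,2,2,2,4,3,3,3,1,3,1])))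
 (Tr.node (Tr.node (Tr.leaf [3,3,3,0,3,3,1,3,3,3,0,3,3,1,3,3,3,0,3,3,1])
 (Tr.leaf [3,1,2,0,2,0,2,2,2,4,3,3,3,1,3,1,3,1,4,2,0,2,0,2,2,2,4,3,3,3,1,3,1,3,1,2,0,2,0,2,2,2,4,3,3,3,1,3,1]))
 (Tr.node (Tr.leaf [0,4,3,0,2,2,0,2,0,2,4,3,1,3,1,3,3,1,2,0])
 (Tr.leaf [1,4,2,0,2,0,2,2,2,4,3,3,3,1,3,1,3,1,2,0,2,0,2,2,2,4,3,3,3,1,3,1,3,1,2,0,2,0,2,2,2,4,3,3,3,1,3,1,3]))))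
 (Tr.node (Tr.node (Tr.node (Tr.leaf [0,2,1,3,0,2,1,3,0,2,1,3])
 (Tr.leaf [2,4,3,3,3,1,3,1,3,1,2,0,2,0,2,2,2,4,3,3,3,1,3,1,3,1,4,2,0,2,0,2,2,2,4,3,3,3,1,3,1,3,1,2,0,2,0,2,2]))
 (Tr.node (Tr.leaf [1,3,1,3,3,1,2,0,0,4,3,0,2,2,0,2,0,2,4,3])
 (Tr.leaf [1,4,2,0,2,0,2,2,2,4,3,3,3,1,3,1,3,1,2,0,2,0,2,2,2,4,3,3,3,1,3,1,3,1,2,0,2,0,2,2,2,4,3,3,3,1,3,1,3])))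
 (Tr.node (Tr.node (Tr.leaf [3,3,3,1,3,1,3,3,3,1,3,1,3,3,3,1,3,1,3,3,3,1,3,1])
 (Tr.leaf [2,4,3,3,3,1,3,1,3,1,4,2,0,2,0,2,2,2,4,3,3,3,1,3,1,3,1,2,0,2,0,2,2,2,4,3,3,3,1,3,1,3,1,2,0,2,0,2,2]))
 (Tr.node (Tr.leaf [2,4,3,3,3,1,3,1,3,1,2,0,2,0,2,2,2,4,3,3,3,1,3,1,3,1,2,0,2,0,2,2,2,4,3,3,3,1,3,1,3,1,4,2,0,2,0,2,2])
 (Tr.leaf [1,4,2,0,2,0,2,2,2,4,3,3,3,1,3,1,3,1,2,0,2,0,2,2,2,4,3,3,3,1,3,1,3,1,2,0,2,0,2,2,2,4,3,3,3,1,3,1,3])))))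
 (Tr.node (Tr.node (Tr.node (Tr.node (Tr.leaf [3,1,1,2,1,1])
 (Tr.leaf [2,0,2,2,2,4,3,3,3,1,3,1,3,1,2,0,2,0,2,2,2,4,3,3,3,1,3,1,3,1,4,2,0,2,0,2,2,2,4,3,3,3,1,3,1,3,1,2,0]))
 (Tr.node (Tr.leaf [0,2,4,3,1,3,1,3,3,1,2,0,0,4,3,0,2,2,0,2])
 (Tr.leaf [1,4,2,0,2,0,2,2,2,4,3,3,3,1,3,1,3,1,2,0,2,0,2,2,2,4,3,3,3,1,3,1,3,1,2,0,2,0,2,2,2,4,3,3,3,1,3,1,3])))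
 (Tr.node (Tr.node (Tr.leaf [3,1,3,1,3,1,3,1,3,1,3,1,3,1,3,1])
 (Tr.leaf [2,0,2,2,2,4,3,3,3,1,3,1,3,1,4,2,0,2,0,2,2,2,4,3,3,3,1,3,1,3,1,2,0,2,0,2,2,2,4,3,3,3,1,3,1,3,1,2,0]))
 (Tr.node (Tr.leaf [2,0,2,2,2,4,3,3,3,1,3,1,3,1,2,0,2,0,2,2,2,4,3,3,3,1,3,1,3,1,2,0,2,0,2,2,2,4,3,3,3,1,3,1,3,1,4,2,0])
 (Tr.leaf [1,4,2,0,2,0,2,2,2,4,3,3,3,1,3,1,3,1,2,0,2,0,2,2,2,4,3,3,3,1,3,1,3,1,2,0,2,0,2,2,2,4,3,3,3,1,3,1,3]))))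
 (Tr.node (Tr.node (Tr.node (Tr.leaf [0,3,3,1,3,3,3,0,3,3,1,3,3,3,0,3,3,1,3,3,3])
 (Tr.leaf [3,1,3,1,3,1,2,0,2,0,2,2,2,4,3,3,3,1,3,1,3,1,4,2,0,2,0,2,2,2,4,3,3,3,1,3,1,3,1,2,0,2,0,2,2,2,4,3,3]))
 (Tr.node (Tr.leaf [3,1,2,0,0,4,3,0,2,2,0,2,0,2,4,3,1,3,1,3])
 (Tr.leaf [1,4,2,0,2,0,2,2,2,4,3,3,3,1,3,1,3,1,2,0,2,0,2,2,2,4,3,3,3,1,3,1,3,1,2,0,2,0,2,2,2,4,3,3,3,1,3,1,3])))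
 (Tr.node (Tr.node (Tr.leaf [1,4,1,4])
 (Tr.leaf [3,1,3,1,3,1,4,2,0,2,0,2,2,2,4,3,3,3,1,3,1,3,1,2,0,2,0,2,2,2,4,3,3,3,1,3,1,3,1,2,0,2,0,2,2,2,4,3,3]))
 (Tr.node (Tr.leaf [3,1,3,1,3,1,2,0,2,0,2,2,2,4,3,3,3,1,3,1,3,1,2,0,2,0,2,2,2,4,3,3,3,1,3,1,3,1,4,2,0,2,0,2,2,2,4,3,3])
 (Tr.leaf [1,4,2,0,2,0,2,2,2,4,3,3,3,1,3,1,3,1,2,0,2,0,2,2,2,4,3,3,3,1,3,1,3,1,2,0,2,0,2,2,2,4,3,3,3,1,3,1,3])))))))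
 (Tr.node (Tr.node (Tr.node (Tr.node (Tr.node (Tr.node (Tr.leaf [2,3])
 (Tr.leaf [1,3,1,2,0,2,0,2,2,2,4,3,3,3,1,3,1,3,1,2,0,2,0,2,2,2,4,3,3,3,1,3,1,3,1,4,2,0,2,0,2,2,2,4,3,3,3,1,3]))
 (Tr.node (Tr.leaf [0,2,2,0,2,0,2,4,3,1,3,1,3,3,1,2,0,0,4,3])
 (Tr.leaf [1,3,1,4,2,0,2,0,2,2,2,4,3,3,3,1,3,1,3,1,2,0,2,0,2,2,2,4,3,3,3,1,3,1,3,1,2,0,2,0,2,2,2,4,3,3,3,1,3])))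
 (Tr.node (Tr.node (Tr.leaf [1,3,3,3,0,3,3,1,3,3,3,0,3,3,1,3,3,3,0,3,3])
 (Tr.leaf [1,3,1,2,0,2,0,2,2,2,4,3,3,3,1,3,1,3,1,4,2,0,2,0,2,2,2,4,3,3,3,1,3,1,3,1,2,0,2,0,2,2,2,4,3,3,3,1,3]))
 (Tr.node (Tr.leaf [0,0,4,3,0,2,2,0,2,0,2,4,3,1,3,1,3,3,1,2])
 (Tr.leaf [1,4,2,0,2,0,2,2,2,4,3,3,3,1,3,1,3,1,2,0,2,0,2,2,2,4,3,3,3,1,3,1,3,1,2,0,2,0,2,2,2,4,3,3,3,1,3,1,3]))))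
 (Tr.node (Tr.node (Tr.node (Tr.leaf [2,1,1,3,1,1])
 (Tr.leaf [2,2,4,3,3,3,1,3,1,3,1,2,0,2,0,2,2,2,4,3,3,3,1,3,1,3,1,4,2,0,2,0,2,2,2,4,3,3,3,1,3,1,3,1,2,0,2,0,2]))
 (Tr.node (Tr.leaf [3,1,3,1,3,3,1,2,0,0,4,3,0,2,2,0,2,0,2,4])
 (Tr.leaf [1,4,2,0,2,0,2,2,2,4,3,3,3,1,3,1,3,1,2,0,2,0,2,2,2,4,3,3,3,1,3,1,3,1,2,0,2,0,2,2,2,4,3,3,3,1,3,1,3])))
 (Tr.node (Tr.node (Tr.leaf [1,3,3,3,1,3,1,3,3,3,1,3,1,3,3,3,1,3,1,3,3,3,1,3])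
 (Tr.leaf [2,2,4,3,3,3,1,3,1,3,1,4,2,0,2,0,2,2,2,4,3,3,3,1,3,1,3,1,2,0,2,0,2,2,2,4,3,3,3,1,3,1,3,1,2,0,2,0,2]))
 (Tr.node (Tr.leaf [2,2,4,3,3,3,1,3,1,3,1,2,0,2,0,2,2,2,4,3,3,3,1,3,1,3,1,2,0,2,0,2,2,2,4,3,3,3,1,3,1,3,1,4,2,0,2,0,2])
 (Tr.leaf [1,4,2,0,2,0,2,2,2,4,3,3,3,1,3,1,3,1,2,0,2,0,2,2,2,4,3,3,3,1,3,1,3,1,2,0,2,0,2,2,2,4,3,3,3,1,3,1,3])))))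
 (Tr.node (Tr.node (Tr.node (Tr.node (Tr.leaf [1,3,1,1,2,1])
 (Tr.leaf [0,2,0,2,2,2,4,3,3,3,1,3,1,3,1,2,0,2,0,2,2,2,4,3,3,3,1,3,1,3,1,4,2,0,2,0,2,2,2,4,3,3,3,1,3,1,3,1,2]))
 (Tr.node (Tr.leaf [2,0,2,4,3,1,3,1,3,3,1,2,0,0,4,3,0,2,2,0])
 (Tr.leaf [1,4,2,0,2,0,2,2,2,4,3,3,3,1,3,1,3,1,2,0,2,0,2,2,2,4,3,3,3,1,3,1,3,1,2,0,2,0,2,2,2,4,3,3,3,1,3,1,3])))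
 (Tr.node (Tr.node (Tr.leaf [1,3,1,3,1,3,1,3,1,3,1,3,1,3,1,3])
 (Tr.leaf [0,2,0,2,2,2,4,3,3,3,1,3,1,3,1,4,2,0,2,0,2,2,2,4,3,3,3,1,3,1,3,1,2,0,2,0,2,2,2,4,3,3,3,1,3,1,3,1,2]))
 (Tr.node (Tr.leaf [0,2,0,2,2,2,4,3,3,3,1,3,1,3,1,2,0,2,0,2,2,2,4,3,3,3,1,3,1,3,1,2,0,2,0,2,2,2,4,3,3,3,1,3,1,3,1,4,2])
 (Tr.leaf [1,4,2,0,2,0,2,2,2,4,3,3,3,1,3,1,3,1,2,0,2,0,2,2,2,4,3,3,3,1,3,1,3,1,2,0,2,0,2,2,2,4,3,3,3,1,3,1,3]))))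
 (Tr.node (Tr.node (Tr.node (Tr.leaf [3,0,2,1,3,0,2,1,3,0,2,1])
 (Tr.leaf [3,3,1,3,1,3,1,2,0,2,0,2,2,2,4,3,3,3,1,3,1,3,1,4,2,0,2,0,2,2,2,4,3,3,3,1,3,1,3,1,2,0,2,0,2,2,2,4,3]))
 (Tr.node (Tr.leaf [3,3,1,2,0,0,4,3,0,2,2,0,2,0,2,4,3,1,3,1])
 (Tr.leaf [1,4,2,0,2,0,2,2,2,4,3,3,3,1,3,1,3,1,2,0,2,0,2,2,2,4,3,3,3,1,3,1,3,1,2,0,2,0,2,2,2,4,3,3,3,1,3,1,3])))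
 (Tr.node (Tr.node (Tr.leaf [4,1,4,1])
 (Tr.leaf [3,3,1,3,1,3,1,4,2,0,2,0,2,2,2,4,3,3,3,1,3,1,3,1,2,0,2,0,2,2,2,4,3,3,3,1,3,1,3,1,2,0,2,0,2,2,2,4,3]))
 (Tr.node (Tr.leaf [3,3,1,3,1,3,1,2,0,2,0,2,2,2,4,3,3,3,1,3,1,3,1,2,0,2,0,2,2,2,4,3,3,3,1,3,1,3,1,4,2,0,2,0,2,2,2,4,3])
 (Tr.leaf [1,4,2,0,2,0,2,2,2,4,3,3,3,1,3,1,3,1,2,0,2,0,2,2,2,4,3,3,3,1,3,1,3,1,2,0,2,0,2,2,2,4,3,3,3,1,3,1,3]))))))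
 (Tr.node (Tr.node (Tr.node (Tr.node (Tr.node (Tr.leaf [3,3,3,3,3,3])
 (Tr.leaf [1,2,0,2,0,2,2,2,4,3,3,3,1,3,1,3,1,2,0,2,0,2,2,2,4,3,3,3,1,3,1,3,1,4,2,0,2,0,2,2,2,4,3,3,3,1,3,1,3]))
 (Tr.node (Tr.leaf [2,0,2,0,2,4,3,1,3,1,3,3,1,2,0,0,4,3,0,2])
 (Tr.leaf [1,4,2,0,2,0,2,2,2,4,3,3,3,1,3,1,3,1,2,0,2,0,2,2,2,4,3,3,3,1,3,1,3,1,2,0,2,0,2,2,2,4,3,3,3,1,3,1,3])))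
 (Tr.node (Tr.node (Tr.leaf [3,3,0,3,3,1,3,3,3,0,3,3,1,3,3,3,0,3,3,1,3])
 (Tr.leaf [1,2,0,2,0,2,2,2,4,3,3,3,1,3,1,3,1,4,2,0,2,0,2,2,2,4,3,3,3,1,3,1,3,1,2,0,2,0,2,2,2,4,3,3,3,1,3,1,3]))
 (Tr.node (Tr.leaf [4,2,0,2,0,2,2,2,4,3,3,3,1,3,1,3,1,2,0,2,0,2,2,2,4,3,3,3,1,3,1,3,1,2,0,2,0,2,2,2,4,3,3,3,1,3,1,3,1])
 (Tr.leaf [1,4,2,0,2,0,2,2,2,4,3,3,3,1,3,1,3,1,2,0,2,0,2,2,2,4,3,3,3,1,3,1,3,1,2,0,2,0,2,2,2,4,3,3,3,1,3,1,3]))))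
 (Tr.node (Tr.node (Tr.node (Tr.leaf [2,1,3,0,2,1,3,0,2,1,3,0])
 (Tr.leaf [4,3,3,3,1,3,1,3,1,2,0,2,0,2,2,2,4,3,3,3,1,3,1,3,1,4,2,0,2,0,2,2,2,4,3,3,3,1,3,1,3,1,2,0,2,0,2,2,2]))
 (Tr.node (Tr.leaf [3,1,3,3,1,2,0,0,4,3,0,2,2,0,2,0,2,4,3,1])
 (Tr.leaf [1,4,2,0,2,0,2,2,2,4,3,3,3,1,3,1,3,1,2,0,2,0,2,2,2,4,3,3,3,1,3,1,3,1,2,0,2,0,2,2,2,4,3,3,3,1,3,1,3])))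
 (Tr.node (Tr.node (Tr.leaf [3,3,1,3,1,3,3,3,1,3,1,3,3,3,1,3,1,3,3,3,1,3,1,3])
 (Tr.leaf [4,3,3,3,1,3,1,3,1,4,2,0,2,0,2,2,2,4,3,3,3,1,3,1,3,1,2,0,2,0,2,2,2,4,3,3,3,1,3,1,3,1,2,0,2,0,2,2,2]))
 (Tr.node (Tr.leaf [4,3,3,3,1,3,1,3,1,2,0,2,0,2,2,2,4,3,3,3,1,3,1,3,1,2,0,2,0,2,2,2,4,3,3,3,1,3,1,3,1,4,2,0,2,0,2,2,2])
 (Tr.leaf [1,4,2,0,2,0,2,2,2,4,3,3,3,1,3,1,3,1,2,0,2,0,2,2,2,4,3,3,3,1,3,1,3,1,2,0,2,0,2,2,2,4,3,3,3,1,3,1,3])))))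
 (Tr.node (Tr.node (Tr.node (Tr.node (Tr.leaf [1,1,2,1,1,3])
 (Tr.leaf [0,2,2,2,4,3,3,3,1,3,1,3,1,2,0,2,0,2,2,2,4,3,3,3,1,3,1,3,1,4,2,0,2,0,2,2,2,4,3,3,3,1,3,1,3,1,2,0,2]))
 (Tr.node (Tr.leaf [2,4,3,1,3,1,3,3,1,2,0,0,4,3,0,2,2,0,2,0])
 (Tr.leaf [1,4,2,0,2,0,2,2,2,4,3,3,3,1,3,1,3,1,2,0,2,0,2,2,2,4,3,3,3,1,3,1,3,1,2,0,2,0,2,2,2,4,3,3,3,1,3,1,3])))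
 (Tr.node (Tr.node (Tr.leaf [1,3,1,3,3,3,1,3,1,3,3,3,1,3,1,3,3,3,1,3,1,3,3,3])
 (Tr.leaf [0,2,2,2,4,3,3,3,1,3,1,3,1,4,2,0,2,0,2,2,2,4,3,3,3,1,3,1,3,1,2,0,2,0,2,2,2,4,3,3,3,1,3,1,3,1,2,0,2]))
 (Tr.node (Tr.leaf [0,2,2,2,4,3,3,3,1,3,1,3,1,2,0,2,0,2,2,2,4,3,3,3,1,3,1,3,1,2,0,2,0,2,2,2,4,3,3,3,1,3,1,3,1,4,2,0,2])
 (Tr.leaf [1,4,2,0,2,0,2,2,2,4,3,3,3,1,3,1,3,1,2,0,2,0,2,2,2,4,3,3,3,1,3,1,3,1,2,0,2,0,2,2,2,4,3,3,3,1,3,1,3]))))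
 (Tr.node (Tr.node (Tr.node (Tr.leaf [3,3,1,3,3,3,0,3,3,1,3,3,3,0,3,3,1,3,3,3,0])
 (Tr.leaf [1,3,1,3,1,2,0,2,0,2,2,2,4,3,3,3,1,3,1,3,1,4,2,0,2,0,2,2,2,4,3,3,3,1,3,1,3,1,2,0,2,0,2,2,2,4,3,3,3]))
 (Tr.node (Tr.leaf [1,2,0,0,4,3,0,2,2,0,2,0,2,4,3,1,3,1,3,3])
 (Tr.leaf [1,4,2,0,2,0,2,2,2,4,3,3,3,1,3,1,3,1,2,0,2,0,2,2,2,4,3,3,3,1,3,1,3,1,2,0,2,0,2,2,2,4,3,3,3,1,3,1,3])))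
 (Tr.node (Tr.node (Tr.leaf [4,3,0,2,2,0,2,0,2,4,3,1,3,1,3,3,1,2,0,0])
 (Tr.leaf [1,3,1,3,1,4,2,0,2,0,2,2,2,4,3,3,3,1,3,1,3,1,2,0,2,0,2,2,2,4,3,3,3,1,3,1,3,1,2,0,2,0,2,2,2,4,3,3,3]))
 (Tr.node (Tr.leaf [1,3,1,3,1,2,0,2,0,2,2,2,4,3,3,3,1,3,1,3,1,2,0,2,0,2,2,2,4,3,3,3,1,3,1,3,1,4,2,0,2,0,2,2,2,4,3,3,3])
 (Tr.leaf [1,4,2,0,2,0,2,2,2,4,3,3,3,1,3,1,3,1,2,0,2,0,2,2,2,4,3,3,3,1,3,1,3,1,2,0,2,0,2,2,2,4,3,3,3,1,3,1,3])))))))))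

/-- The subgroup rotations. -/
noncomputable def srotT : Tr (List Nat × Nat × List Nat) := (Tr.node (Tr.node (Tr.leaf ([],0,[]))
 (Tr.leaf ([],2,[])))
 (Tr.node (Tr.leaf ([],1,[]))
 (Tr.leaf ([],3,[]))))

/-- The certificate. -/
noncomputable def cert : Cert :=
  mkCert 5 93848 308251 8 200 204 4 15 358 53 265 338 9007199254740991 9444732965739290427391 19 17 524287 131071 36 34 7 ctree.get rotT.get srotT.get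

/-- The witnesses of the rotations. -/
noncomputable def witT : Tr (Nat × Nat × Bool) := (Tr.node (Tr.node (Tr.node (Tr.node (Tr.node (Tr.node (Tr.node (Tr.node (Tr.leaf (0,0,false))
 (Tr.leaf (9,13,false)))
 (Tr.node (Tr.leaf (8,1,false))
 (Tr.leaf (9,45,false))))
 (Tr.node (Tr.node (Tr.leaf (3,2,false))
 (Tr.leaf (9,29,false)))
 (Tr.node (Tr.leaf (8,17,false))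
 (Tr.leaf (9,48,true)))))
 (Tr.node (Tr.node (Tr.node (Tr.leaf (1,4,false))
 (Tr.leaf (9,21,false)))
 (Tr.node (Tr.leaf (8,9,false))
 (Tr.leaf (9,48,true))))
 (Tr.node (Tr.node (Tr.leaf (5,1,false))
 (Tr.leaf (9,37,false)))
 (Tr.node (Tr.leaf (9,5,false))
 (Tr.leaf (9,48,true))))))
 (Tr.node (Tr.node (Tr.node (Tr.node (Tr.leaf (1,0,false))
 (Tr.leaf (9,17,false)))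
 (Tr.node (Tr.leaf (8,5,false))
 (Tr.leaf (9,48,true))))
 (Tr.node (Tr.node (Tr.leaf (3,6,false))
 (Tr.leaf (9,33,false)))
 (Tr.node (Tr.leaf (9,1,false))
 (Tr.leaf (9,48,true)))))
 (Tr.node (Tr.node (Tr.node (Tr.leaf (2,2,false))
 (Tr.leaf (9,25,false)))
 (Tr.node (Tr.leaf (8,13,false))
 (Tr.leaf (9,48,true))))
 (Tr.node (Tr.node (Tr.leaf (5,5,false))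
 (Tr.leaf (9,41,false)))
 (Tr.node (Tr.leaf (9,9,false))
 (Tr.leaf (9,48,true)))))))
 (Tr.node (Tr.node (Tr.node (Tr.node (Tr.node (Tr.leaf (10,3,false))
 (Tr.leaf (9,15,false)))
 (Tr.node (Tr.leaf (8,3,false))
 (Tr.leaf (9,47,false))))
 (Tr.node (Tr.node (Tr.leaf (3,4,false))
 (Tr.leaf (9,31,false)))
 (Tr.node (Tr.leaf (8,19,false))
 (Tr.leaf (9,48,true)))))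
 (Tr.node (Tr.node (Tr.node (Tr.leaf (2,0,false))
 (Tr.leaf (9,23,false)))
 (Tr.node (Tr.leaf (8,11,false))
 (Tr.leaf (9,48,true))))
 (Tr.node (Tr.node (Tr.leaf (5,3,false))
 (Tr.leaf (9,39,false)))
 (Tr.node (Tr.leaf (9,7,false))
 (Tr.leaf (9,48,true))))))
 (Tr.node (Tr.node (Tr.node (Tr.node (Tr.leaf (1,2,false))
 (Tr.leaf (9,19,false)))
 (Tr.node (Tr.leaf (8,7,false))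
 (Tr.leaf (9,48,true))))
 (Tr.node (Tr.node (Tr.leaf (4,1,false))
 (Tr.leaf (9,35,false)))
 (Tr.node (Tr.leaf (9,3,false))
 (Tr.leaf (9,48,true)))))
 (Tr.node (Tr.node (Tr.node (Tr.leaf (3,0,false))
 (Tr.leaf (9,27,false)))
 (Tr.node (Tr.leaf (8,15,false))
 (Tr.leaf (9,48,true))))
 (Tr.node (Tr.node (Tr.leaf (7,1,false))
 (Tr.leaf (9,43,false)))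
 (Tr.node (Tr.leaf (9,11,false))
 (Tr.leaf (9,48,true))))))))
 (Tr.node (Tr.node (Tr.node (Tr.node (Tr.node (Tr.node (Tr.leaf (10,1,false))
 (Tr.leaf (9,14,false)))
 (Tr.node (Tr.leaf (8,2,false))
 (Tr.leaf (9,46,false))))
 (Tr.node (Tr.node (Tr.leaf (3,3,false))
 (Tr.leaf (9,30,false)))
 (Tr.node (Tr.leaf (8,18,false))
 (Tr.leaf (9,48,true)))))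
 (Tr.node (Tr.node (Tr.node (Tr.leaf (1,5,false))
 (Tr.leaf (9,22,false)))
 (Tr.node (Tr.leaf (8,10,false))
 (Tr.leaf (9,48,true))))
 (Tr.node (Tr.node (Tr.leaf (5,2,false))
 (Tr.leaf (9,38,false)))
 (Tr.node (Tr.leaf (9,6,false))
 (Tr.leaf (9,48,true))))))
 (Tr.node (Tr.node (Tr.node (Tr.node (Tr.leaf (1,1,false))
 (Tr.leaf (9,18,false)))
 (Tr.node (Tr.leaf (8,6,false))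
 (Tr.leaf (9,48,true))))
 (Tr.node (Tr.node (Tr.leaf (4,0,false))
 (Tr.leaf (9,34,false)))
 (Tr.node (Tr.leaf (9,2,false))
 (Tr.leaf (9,48,true)))))
 (Tr.node (Tr.node (Tr.node (Tr.leaf (2,3,false))
 (Tr.leaf (9,26,false)))
 (Tr.node (Tr.leaf (8,14,false))
 (Tr.leaf (9,48,true))))
 (Tr.node (Tr.node (Tr.leaf (7,0,false))
 (Tr.leaf (9,42,false)))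
 (Tr.node (Tr.leaf (9,10,false))
 (Tr.leaf (9,48,true)))))))
 (Tr.node (Tr.node (Tr.node (Tr.node (Tr.node (Tr.leaf (0,0,false))
 (Tr.leaf (9,16,false)))
 (Tr.node (Tr.leaf (8,4,false))
 (Tr.leaf (9,48,false))))
 (Tr.node (Tr.node (Tr.leaf (3,5,false))
 (Tr.leaf (9,32,false)))
 (Tr.node (Tr.leaf (9,0,false))
 (Tr.leaf (9,48,true)))))
 (Tr.node (Tr.node (Tr.node (Tr.leaf (2,1,false))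
 (Tr.leaf (9,24,false)))
 (Tr.node (Tr.leaf (8,12,false))
 (Tr.leaf (9,48,true))))
 (Tr.node (Tr.node (Tr.leaf (5,4,false))
 (Tr.leaf (9,40,false)))
 (Tr.node (Tr.leaf (9,8,false))
 (Tr.leaf (9,48,true))))))
 (Tr.node (Tr.node (Tr.node (Tr.node (Tr.leaf (1,3,false))
 (Tr.leaf (9,20,false)))
 (Tr.node (Tr.leaf (8,8,false))
 (Tr.leaf (9,48,true))))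
 (Tr.node (Tr.node (Tr.leaf (5,0,false))
 (Tr.leaf (9,36,false)))
 (Tr.node (Tr.leaf (9,4,false))
 (Tr.leaf (9,48,true)))))
 (Tr.node (Tr.node (Tr.node (Tr.leaf (3,1,false))
 (Tr.leaf (9,28,false)))
 (Tr.node (Tr.leaf (8,16,false))
 (Tr.leaf (9,48,true))))
 (Tr.node (Tr.node (Tr.leaf (8,0,false))
 (Tr.leaf (9,44,false)))
 (Tr.node (Tr.leaf (9,12,false))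
 (Tr.leaf (9,48,true)))))))))
 (Tr.node (Tr.node (Tr.node (Tr.node (Tr.node (Tr.node (Tr.node (Tr.leaf (10,0,false))
 (Tr.leaf (9,13,true)))
 (Tr.node (Tr.leaf (8,1,true))
 (Tr.leaf (9,45,true))))
 (Tr.node (Tr.node (Tr.leaf (3,2,true))
 (Tr.leaf (9,29,true)))
 (Tr.node (Tr.leaf (8,17,true))
 (Tr.leaf (9,48,true)))))
 (Tr.node (Tr.node (Tr.node (Tr.leaf (1,4,true))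
 (Tr.leaf (9,21,true)))
 (Tr.node (Tr.leaf (8,9,true))
 (Tr.leaf (9,48,true))))
 (Tr.node (Tr.node (Tr.leaf (5,1,true))
 (Tr.leaf (9,37,true)))
 (Tr.node (Tr.leaf (9,5,true))
 (Tr.leaf (9,48,true))))))
 (Tr.node (Tr.node (Tr.node (Tr.node (Tr.leaf (1,0,true))
 (Tr.leaf (9,17,true)))
 (Tr.node (Tr.leaf (8,5,true))
 (Tr.leaf (9,48,true))))
 (Tr.node (Tr.node (Tr.leaf (3,6,true))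
 (Tr.leaf (9,33,true)))
 (Tr.node (Tr.leaf (9,1,true))
 (Tr.leaf (9,48,true)))))
 (Tr.node (Tr.node (Tr.node (Tr.leaf (2,2,true))
 (Tr.leaf (9,25,true)))
 (Tr.node (Tr.leaf (8,13,true))
 (Tr.leaf (9,48,true))))
 (Tr.node (Tr.node (Tr.leaf (5,5,true))
 (Tr.leaf (9,41,true)))
 (Tr.node (Tr.leaf (9,9,true))
 (Tr.leaf (9,48,true)))))))
 (Tr.node (Tr.node (Tr.node (Tr.node (Tr.node (Tr.leaf (6,0,false))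
 (Tr.leaf (9,15,true)))
 (Tr.node (Tr.leaf (8,3,true))
 (Tr.leaf (9,47,true))))
 (Tr.node (Tr.node (Tr.leaf (3,4,true))
 (Tr.leaf (9,31,true)))
 (Tr.node (Tr.leaf (8,19,true))
 (Tr.leaf (9,48,true)))))
 (Tr.node (Tr.node (Tr.node (Tr.leaf (2,0,true))
 (Tr.leaf (9,23,true)))
 (Tr.node (Tr.leaf (8,11,true))
 (Tr.leaf (9,48,true))))
 (Tr.node (Tr.node (Tr.leaf (5,3,true))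
 (Tr.leaf (9,39,true)))
 (Tr.node (Tr.leaf (9,7,true))
 (Tr.leaf (9,48,true))))))
 (Tr.node (Tr.node (Tr.node (Tr.node (Tr.leaf (1,2,true))
 (Tr.leaf (9,19,true)))
 (Tr.node (Tr.leaf (8,7,true))
 (Tr.leaf (9,48,true))))
 (Tr.node (Tr.node (Tr.leaf (4,1,true))
 (Tr.leaf (9,35,true)))
 (Tr.node (Tr.leaf (9,3,true))
 (Tr.leaf (9,48,true)))))
 (Tr.node (Tr.node (Tr.node (Tr.leaf (3,0,true))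
 (Tr.leaf (9,27,true)))
 (Tr.node (Tr.leaf (8,15,true))
 (Tr.leaf (9,48,true))))
 (Tr.node (Tr.node (Tr.leaf (7,1,true))
 (Tr.leaf (9,43,true)))
 (Tr.node (Tr.leaf (9,11,true))
 (Tr.leaf (9,48,true))))))))
 (Tr.node (Tr.node (Tr.node (Tr.node (Tr.node (Tr.node (Tr.leaf (10,2,false))
 (Tr.leaf (9,14,true)))
 (Tr.node (Tr.leaf (8,2,true))
 (Tr.leaf (9,46,true))))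
 (Tr.node (Tr.node (Tr.leaf (3,3,true))
 (Tr.leaf (9,30,true)))
 (Tr.node (Tr.leaf (8,18,true))
 (Tr.leaf (9,48,true)))))
 (Tr.node (Tr.node (Tr.node (Tr.leaf (1,5,true))
 (Tr.leaf (9,22,true)))
 (Tr.node (Tr.leaf (8,10,true))
 (Tr.leaf (9,48,true))))
 (Tr.node (Tr.node (Tr.leaf (5,2,true))
 (Tr.leaf (9,38,true)))
 (Tr.node (Tr.leaf (9,6,true))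
 (Tr.leaf (9,48,true))))))
 (Tr.node (Tr.node (Tr.node (Tr.node (Tr.leaf (1,1,true))
 (Tr.leaf (9,18,true)))
 (Tr.node (Tr.leaf (8,6,true))
 (Tr.leaf (9,48,true))))
 (Tr.node (Tr.node (Tr.leaf (4,0,true))
 (Tr.leaf (9,34,true)))
 (Tr.node (Tr.leaf (9,2,true))
 (Tr.leaf (9,48,true)))))
 (Tr.node (Tr.node (Tr.node (Tr.leaf (2,3,true))
 (Tr.leaf (9,26,true)))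
 (Tr.node (Tr.leaf (8,14,true))
 (Tr.leaf (9,48,true))))
 (Tr.node (Tr.node (Tr.leaf (7,0,true))
 (Tr.leaf (9,42,true)))
 (Tr.node (Tr.leaf (9,10,true))
 (Tr.leaf (9,48,true)))))))
 (Tr.node (Tr.node (Tr.node (Tr.node (Tr.node (Tr.leaf (0,0,true))
 (Tr.leaf (9,16,true)))
 (Tr.node (Tr.leaf (8,4,true))
 (Tr.leaf (9,48,true))))
 (Tr.node (Tr.node (Tr.leaf (3,5,true))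
 (Tr.leaf (9,32,true)))
 (Tr.node (Tr.leaf (9,0,true))
 (Tr.leaf (9,48,true)))))
 (Tr.node (Tr.node (Tr.node (Tr.leaf (2,1,true))
 (Tr.leaf (9,24,true)))
 (Tr.node (Tr.leaf (8,12,true))
 (Tr.leaf (9,48,true))))
 (Tr.node (Tr.node (Tr.leaf (5,4,true))
 (Tr.leaf (9,40,true)))
 (Tr.node (Tr.leaf (9,8,true))
 (Tr.leaf (9,48,true))))))
 (Tr.node (Tr.node (Tr.node (Tr.node (Tr.leaf (1,3,true))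
 (Tr.leaf (9,20,true)))
 (Tr.node (Tr.leaf (8,8,true))
 (Tr.leaf (9,48,true))))
 (Tr.node (Tr.node (Tr.leaf (5,0,true))
 (Tr.leaf (9,36,true)))
 (Tr.node (Tr.leaf (9,4,true))
 (Tr.leaf (9,48,true)))))
 (Tr.node (Tr.node (Tr.node (Tr.leaf (3,1,true))
 (Tr.leaf (9,28,true)))
 (Tr.node (Tr.leaf (8,16,true))
 (Tr.leaf (9,48,true))))
 (Tr.node (Tr.node (Tr.leaf (8,0,true))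
 (Tr.leaf (9,44,true)))
 (Tr.node (Tr.leaf (9,12,true))
 (Tr.leaf (9,48,true))))))))))

/-- The letters. -/
def ls : List Nat := [0,1,2,3,4]

/-- The smaller letters. -/
def ls' : List Nat := [0,1,2,3]

/-- The inverses. -/
def inv' (c : Nat) : Nat := [1,0,3,2,4].getD c 0

/-- The relators. -/
def rels' : List (List Nat) :=
  [[2,2,2,2,2,2],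
   [3,0,0,2,0,0],
   [2,0,3,1,2,0,3,1,2,0,3,1],
   [2,2,2,0,2,2,1,2,2,2,0,2,2,1,2,2,2,0,2,2,1],
   [2,0,2,0,2,0,2,0,2,0,2,0,2,0,2,0],
   [2,2,2,0,2,0,2,2,2,0,2,0,2,2,2,0,2,0,2,2,2,0,2,0],
   [4,4],
   [0,4,0,4],
   [1,1,3,0,2,2,0,2,0,2,4,3,1,3,1,3,3,1,2,4],
   [0,2,0,2,0,2,2,2,4,3,3,3,1,3,1,3,0,2,0,2,0,2,2,2,4,3,3,3,1,3,1,3,0,2,0,2,0,2,2,2,4,3,3,3,1,3,1,3,4]]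

/-- The subgroup. -/
def subs' : List (List Nat) :=
  [[0],[1],[2],[3]]


end Cfsg.Agent.Lib.TC.D.HNC.S1_Tab
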