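import Cfsg.Agent.Lib.TC.G.HN
import Cfsg.Agent.Lib.TC.Chain
import Cfsg.Agent.Lib.TC.D.HNC.S2_T0
import Cfsg.Agent.Lib.TC.D.HNC.S2_T1
import Cfsg.Agent.Lib.TC.D.HNC.S2_T2
import Cfsg.Agent.Lib.TC.D.HNC.S2_T3

namespace Cfsg.Agent.Lib.TC.D.HNC.S2_Tab

open Cfsg.Agent.Lib.TC.Core Cfsg.Agent.Lib.TC.Enc Cfsg.Agent.Lib.TC.Pres Cfsg.Agent.Lib.TC.Perm Cfsg.Agent.Lib.TC.Main Cfsg.Agent.Lib.TC.Chain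

set_option maxRecDepth 100000

/-- The chunks of the certificate. -/
noncomputable def ctree : Tr Nat := (Tr.node (Tr.node Cfsg.Agent.Lib.TC.D.HNC.S2_T0.tree Cfsg.Agent.Lib.TC.D.HNC.S2_T2.tree) (Tr.node Cfsg.Agent.Lib.TC.D.HNC.S2_T1.tree Cfsg.Agent.Lib.TC.D.HNC.S2_T3.tree))

/-- The relator rotations. -/
noncomputable def rotT : Tr (List Nat) := (Tr.node (Tr.node (Tr.node (Tr.node (Tr.node (Tr.node (Tr.leaf [])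
 (Tr.leaf [3,1,3,3,3,0,3,3,1,3,3,3,0,3,3,1,3,3,3,0,3]))
 (Tr.node (Tr.leaf [1,2,1,1,3,1])
 (Tr.leaf [3,1,3,3,3,1,3,1,3,3,3,1,3,1,3,3,3,1,3,1,3,3,3,1])))
 (Tr.node (Tr.node (Tr.leaf [1,1,3,1,1,2])
 (Tr.leaf [3,0,3,3,1,3,3,3,0,3,3,1,3,3,3,0,3,3,1,3,3]))
 (Tr.node (Tr.leaf [1,3,0,2,1,3,0,2,1,3,0,2])
 (Tr.leaf [3,1,3,1,3,3,3,1,3,1,3,3,3,1,3,1,3,3,3,1,3,1,3,3]))))
 (Tr.node (Tr.node (Tr.node (Tr.leaf [3,2])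
 (Tr.leaf [3,3,3,0,3,3,1,3,3,3,0,3,3,1,3,3,3,0,3,3,1]))
 (Tr.node (Tr.leaf [0,2,1,3,0,2,1,3,0,2,1,3])
 (Tr.leaf [3,3,3,1,3,1,3,3,3,1,3,1,3,3,3,1,3,1,3,3,3,1,3,1])))
 (Tr.node (Tr.node (Tr.leaf [3,1,1,2,1,1])
 (Tr.leaf [3,1,3,1,3,1,3,1,3,1,3,1,3,1,3,1]))
 (Tr.node (Tr.leaf [0,3,3,1,3,3,3,0,3,3,1,3,3,3,0,3,3,1,3,3,3])
 (Tr.leaf [1,1,1,1])))))
 (Tr.node (Tr.node (Tr.node (Tr.node (Tr.leaf [1,0])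
 (Tr.leaf [1,3,3,3,0,3,3,1,3,3,3,0,3,3,1,3,3,3,0,3,3]))
 (Tr.node (Tr.leaf [2,1,1,3,1,1])
 (Tr.leaf [1,3,3,3,1,3,1,3,3,3,1,3,1,3,3,3,1,3,1,3,3,3,1,3])))
 (Tr.node (Tr.node (Tr.leaf [1,3,1,1,2,1])
 (Tr.leaf [1,3,1,3,1,3,1,3,1,3,1,3,1,3,1,3]))
 (Tr.node (Tr.leaf [3,0,2,1,3,0,2,1,3,0,2,1])
 (Tr.leaf [1,1,1,1]))))
 (Tr.node (Tr.node (Tr.node (Tr.leaf [3,3,3,3,3,3])
 (Tr.leaf [3,3,0,3,3,1,3,3,3,0,3,3,1,3,3,3,0,3,3,1,3]))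
 (Tr.node (Tr.leaf [2,1,3,0,2,1,3,0,2,1,3,0])
 (Tr.leaf [3,3,1,3,1,3,3,3,1,3,1,3,3,3,1,3,1,3,3,3,1,3,1,3])))
 (Tr.node (Tr.node (Tr.leaf [1,1,2,1,1,3])
 (Tr.leaf [1,3,1,3,3,3,1,3,1,3,3,3,1,3,1,3,3,3,1,3,1,3,3,3]))
 (Tr.node (Tr.leaf [3,3,1,3,3,3,0,3,3,1,3,3,3,0,3,3,1,3,3,3,0])
 (Tr.leaf [1,1,1,1]))))))
 (Tr.node (Tr.node (Tr.node (Tr.node (Tr.node (Tr.leaf [0,1])
 (Tr.leaf [0,2,2,1,2,2,2,0,2,2,1,2,2,2,0,2,2,1,2,2,2]))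
 (Tr.node (Tr.leaf [0,3,0,0,2,0])
 (Tr.leaf [2,0,2,0,2,2,2,0,2,0,2,2,2,0,2,0,2,2,2,0,2,0,2,2])))
 (Tr.node (Tr.node (Tr.leaf [0,0,2,0,0,3])
 (Tr.leaf [2,0,2,0,2,0,2,0,2,0,2,0,2,0,2,0]))
 (Tr.node (Tr.leaf [1,2,0,3,1,2,0,3,1,2,0,3])
 (Tr.leaf [0,0,0,0]))))
 (Tr.node (Tr.node (Tr.node (Tr.leaf [2,2,2,2,2,2])
 (Tr.leaf [2,1,2,2,2,0,2,2,1,2,2,2,0,2,2,1,2,2,2,0,2]))
 (Tr.node (Tr.leaf [0,3,1,2,0,3,1,2,0,3,1,2])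
 (Tr.leaf [2,0,2,2,2,0,2,0,2,2,2,0,2,0,2,2,2,0,2,0,2,2,2,0])))
 (Tr.node (Tr.node (Tr.leaf [2,0,0,3,0,0])
 (Tr.leaf [2,2,2,0,2,0,2,2,2,0,2,0,2,2,2,0,2,0,2,2,2,0,2,0]))
 (Tr.node (Tr.leaf [2,2,0,2,2,1,2,2,2,0,2,2,1,2,2,2,0,2,2,1,2])
 (Tr.leaf [1,1,1,1])))))
 (Tr.node (Tr.node (Tr.node (Tr.node (Tr.leaf [2,3])
 (Tr.leaf [2,2,1,2,2,2,0,2,2,1,2,2,2,0,2,2,1,2,2,2,0]))
 (Tr.node (Tr.leaf [2,0,3,1,2,0,3,1,2,0,3,1])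
 (Tr.leaf [0,2,0,2,2,2,0,2,0,2,2,2,0,2,0,2,2,2,0,2,0,2,2,2])))
 (Tr.node (Tr.node (Tr.leaf [0,2,0,0,3,0])
 (Tr.leaf [0,2,0,2,0,2,0,2,0,2,0,2,0,2,0,2]))
 (Tr.node (Tr.leaf [2,2,2,0,2,2,1,2,2,2,0,2,2,1,2,2,2,0,2,2,1])
 (Tr.leaf [1,1,1,1]))))
 (Tr.node (Tr.node (Tr.node (Tr.leaf [3,0,0,2,0,0])
 (Tr.leaf [1,2,2,2,0,2,2,1,2,2,2,0,2,2,1,2,2,2,0,2,2]))
 (Tr.node (Tr.leaf [3,1,2,0,3,1,2,0,3,1,2,0])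
 (Tr.leaf [0,2,2,2,0,2,0,2,2,2,0,2,0,2,2,2,0,2,0,2,2,2,0,2])))
 (Tr.node (Tr.node (Tr.leaf [0,0,3,0,0,2])
 (Tr.leaf [2,2,0,2,0,2,2,2,0,2,0,2,2,2,0,2,0,2,2,2,0,2,0,2]))
 (Tr.node (Tr.leaf [2,0,2,2,1,2,2,2,0,2,2,1,2,2,2,0,2,2,1,2,2])
 (Tr.leaf [1,1,1,1])))))))

/-- The subgroup rotations. -/
noncomputable def srotT : Tr (List Nat × Nat × List Nat) := (Tr.node (Tr.node (Tr.leaf ([],2,[]))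
 (Tr.leaf ([0],0,[])))
 (Tr.node (Tr.leaf ([],0,[0]))
 (Tr.leaf ([0],0,[]))))

/-- The certificate. -/
noncomputable def cert : Cert :=
  mkCert 4 329681 1155097 6 59 62 4 15 339 59 236 317 576460752303423487 2417851639229258349412351 21 19 2097151 524287 40 38 7 ctree.get rotT.get srotT.get

/-- The witnesses of the rotations. -/
noncomputable def witT : Tr (Nat × Nat × Bool) := (Tr.node (Tr.node (Tr.node (Tr.node (Tr.node (Tr.node (Tr.leaf (0,0,false))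
 (Tr.leaf (3,2,true)))
 (Tr.node (Tr.leaf (1,4,true))
 (Tr.leaf (5,1,true))))
 (Tr.node (Tr.node (Tr.leaf (1,0,true))
 (Tr.leaf (3,6,true)))
 (Tr.node (Tr.leaf (2,2,true))
 (Tr.leaf (5,5,true)))))
 (Tr.node (Tr.node (Tr.node (Tr.leaf (7,3,false))
 (Tr.leaf (3,4,true)))
 (Tr.node (Tr.leaf (2,0,true))
 (Tr.leaf (5,3,true))))
 (Tr.node (Tr.node (Tr.leaf (1,2,true))
 (Tr.leaf (4,1,true)))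
 (Tr.node (Tr.leaf (3,0,true))
 (Tr.leaf (6,0,true))))))
 (Tr.node (Tr.node (Tr.node (Tr.node (Tr.leaf (7,1,false))
 (Tr.leaf (3,3,true)))
 (Tr.node (Tr.leaf (1,5,true))
 (Tr.leaf (5,2,true))))
 (Tr.node (Tr.node (Tr.leaf (1,1,true))
 (Tr.leaf (4,0,true)))
 (Tr.node (Tr.leaf (2,3,true))
 (Tr.leaf (6,0,true)))))
 (Tr.node (Tr.node (Tr.node (Tr.leaf (0,0,true))
 (Tr.leaf (3,5,true)))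
 (Tr.node (Tr.leaf (2,1,true))
 (Tr.leaf (5,4,true))))
 (Tr.node (Tr.node (Tr.leaf (1,3,true))
 (Tr.leaf (5,0,true)))
 (Tr.node (Tr.leaf (3,1,true))
 (Tr.leaf (6,0,true)))))))
 (Tr.node (Tr.node (Tr.node (Tr.node (Tr.node (Tr.leaf (7,0,false))
 (Tr.leaf (3,3,false)))
 (Tr.node (Tr.leaf (1,5,false))
 (Tr.leaf (5,2,false))))
 (Tr.node (Tr.node (Tr.leaf (1,1,false))
 (Tr.leaf (4,0,false)))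
 (Tr.node (Tr.leaf (2,3,false))
 (Tr.leaf (6,0,false)))))
 (Tr.node (Tr.node (Tr.node (Tr.leaf (0,0,false))
 (Tr.leaf (3,5,false)))
 (Tr.node (Tr.leaf (2,1,false))
 (Tr.leaf (5,4,false))))
 (Tr.node (Tr.node (Tr.leaf (1,3,false))
 (Tr.leaf (5,0,false)))
 (Tr.node (Tr.leaf (3,1,false))
 (Tr.leaf (6,0,true))))))
 (Tr.node (Tr.node (Tr.node (Tr.node (Tr.leaf (7,2,false))
 (Tr.leaf (3,4,false)))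
 (Tr.node (Tr.leaf (2,0,false))
 (Tr.leaf (5,3,false))))
 (Tr.node (Tr.node (Tr.leaf (1,2,false))
 (Tr.leaf (4,1,false)))
 (Tr.node (Tr.leaf (3,0,false))
 (Tr.leaf (6,0,true)))))
 (Tr.node (Tr.node (Tr.node (Tr.leaf (1,0,false))
 (Tr.leaf (3,6,false)))
 (Tr.node (Tr.leaf (2,2,false))
 (Tr.leaf (5,5,false))))
 (Tr.node (Tr.node (Tr.leaf (1,4,false))
 (Tr.leaf (5,1,false)))
 (Tr.node (Tr.leaf (3,2,false))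
 (Tr.leaf (6,0,true))))))))

/-- The inverses. -/
def inv' (c : Nat) : Nat := [1,0,3,2].getD c 0

/-- The relators. -/
def rels' : List (List Nat) :=
  [[2,2,2,2,2,2],
   [3,0,0,2,0,0],
   [2,0,3,1,2,0,3,1,2,0,3,1],
   [2,2,2,0,2,2,1,2,2,2,0,2,2,1,2,2,2,0,2,2,1],
   [2,0,2,0,2,0,2,0,2,0,2,0,2,0,2,0],
   [2,2,2,0,2,0,2,2,2,0,2,0,2,2,2,0,2,0,2,2,2,0,2,0],
   [0,0,0,0]]

/-- The subgroup. -/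
def subs' : List (List Nat) :=
  [[2],[0,0]]


end Cfsg.Agent.Lib.TC.D.HNC.S2_Tab
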