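import Cfsg.Agent.Lib.TC.G.HN
import Cfsg.Agent.Lib.TC.Chain
import Cfsg.Agent.Lib.TC.D.HNC.S3_T0
import Cfsg.Agent.Lib.TC.D.HNC.S3_T1

namespace Cfsg.Agent.Lib.TC.D.HNC.S3_Tab

open Cfsg.Agent.Lib.TC.Core Cfsg.Agent.Lib.TC.Enc Cfsg.Agent.Lib.TC.Pres Cfsg.Agent.Lib.TC.Perm Cfsg.Agent.Lib.TC.Main Cfsg.Agent.Lib.TC.Chain

set_option maxRecDepth 100000

/-- The chunks of the certificate. -/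
noncomputable def ctree : Tr Nat := (Tr.node Cfsg.Agent.Lib.TC.D.HNC.S3_T0.tree Cfsg.Agent.Lib.TC.D.HNC.S3_T1.tree)

/-- The relator rotations. -/
noncomputable def rotT : Tr (List Nat) := (Tr.node (Tr.node (Tr.node (Tr.node (Tr.node (Tr.node (Tr.node (Tr.leaf [])
 (Tr.leaf [2,0,3,0,3,0,2,2,1,3,3,1,2,1,2,1,3,3,0,2,2,0,3,0,3,0,2,2,1,3,3,1,2,1,2,1,3,3,0,2]))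
 (Tr.node (Tr.leaf [3,1,3,3,3,0,3,3,1,3,3,3,0,3,3,1,3,3,3,0,3])
 (Tr.leaf [3,3,0,2,2,0,3,0,3,0,2,2,1,3,3,1,2,1,2,1,3,3,0,2,2,0,3,0,3,0,2,2,1,3,3,1,2,1,2,1])))
 (Tr.node (Tr.node (Tr.leaf [1,2,1,1,3,1])
 (Tr.leaf [1,3,3,1,2,1,2,1,3,3,0,2,2,0,3,0,3,0,2,2,1,3,3,1,2,1,2,1,3,3,0,2,2,0,3,0,3,0,2,2]))
 (Tr.node (Tr.leaf [3,1,3,3,3,1,3,1,3,3,3,1,3,1,3,3,3,1,3,1,3,3,3,1])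
 (Tr.leaf [3,0,2,2,0,3,0,3,0,2,2,1,3,3,1,2,1,2,1,3,3,0,2,2,0,3,0,3,0,2,2,1,3,3,1,2,1,2,1,3]))))
 (Tr.node (Tr.node (Tr.node (Tr.leaf [1,1,3,1,1,2])
 (Tr.leaf [3,0,2,2,1,3,3,1,2,1,2,1,3,3,0,2,2,0,3,0,3,0,2,2,1,3,3,1,2,1,2,1,3,3,0,2,2,0,3,0]))
 (Tr.node (Tr.leaf [3,0,3,3,1,3,3,3,0,3,3,1,3,3,3,0,3,3,1,3,3])
 (Tr.leaf [3,0,2,2,0,3,0,3,0,2,2,1,3,3,1,2,1,2,1,3,3,0,2,2,0,3,0,3,0,2,2,1,3,3,1,2,1,2,1,3])))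
 (Tr.node (Tr.node (Tr.leaf [1,3,0,2,1,3,0,2,1,3,0,2])
 (Tr.leaf [2,1,2,1,3,3,0,2,2,0,3,0,3,0,2,2,1,3,3,1,2,1,2,1,3,3,0,2,2,0,3,0,3,0,2,2,1,3,3,1]))
 (Tr.node (Tr.leaf [3,1,3,1,3,3,3,1,3,1,3,3,3,1,3,1,3,3,3,1,3,1,3,3])
 (Tr.leaf [3,0,2,2,0,3,0,3,0,2,2,1,3,3,1,2,1,2,1,3,3,0,2,2,0,3,0,3,0,2,2,1,3,3,1,2,1,2,1,3])))))
 (Tr.node (Tr.node (Tr.node (Tr.node (Tr.leaf [3,2])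
 (Tr.leaf [3,0,3,0,2,2,1,3,3,1,2,1,2,1,3,3,0,2,2,0,3,0,3,0,2,2,1,3,3,1,2,1,2,1,3,3,0,2,2,0]))
 (Tr.node (Tr.leaf [3,3,3,0,3,3,1,3,3,3,0,3,3,1,3,3,3,0,3,3,1])
 (Tr.leaf [3,0,2,2,0,3,0,3,0,2,2,1,3,3,1,2,1,2,1,3,3,0,2,2,0,3,0,3,0,2,2,1,3,3,1,2,1,2,1,3])))
 (Tr.node (Tr.node (Tr.leaf [0,2,1,3,0,2,1,3,0,2,1,3])
 (Tr.leaf [3,1,2,1,2,1,3,3,0,2,2,0,3,0,3,0,2,2,1,3,3,1,2,1,2,1,3,3,0,2,2,0,3,0,3,0,2,2,1,3]))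
 (Tr.node (Tr.leaf [3,3,3,1,3,1,3,3,3,1,3,1,3,3,3,1,3,1,3,3,3,1,3,1])
 (Tr.leaf [3,0,2,2,0,3,0,3,0,2,2,1,3,3,1,2,1,2,1,3,3,0,2,2,0,3,0,3,0,2,2,1,3,3,1,2,1,2,1,3]))))
 (Tr.node (Tr.node (Tr.node (Tr.leaf [3,1,1,2,1,1])
 (Tr.leaf [2,2,1,3,3,1,2,1,2,1,3,3,0,2,2,0,3,0,3,0,2,2,1,3,3,1,2,1,2,1,3,3,0,2,2,0,3,0,3,0]))
 (Tr.node (Tr.leaf [3,1,3,1,3,1,3,1,3,1,3,1,3,1,3,1])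
 (Tr.leaf [3,0,2,2,0,3,0,3,0,2,2,1,3,3,1,2,1,2,1,3,3,0,2,2,0,3,0,3,0,2,2,1,3,3,1,2,1,2,1,3])))
 (Tr.node (Tr.node (Tr.leaf [0,3,3,1,3,3,3,0,3,3,1,3,3,3,0,3,3,1,3,3,3])
 (Tr.leaf [2,1,3,3,0,2,2,0,3,0,3,0,2,2,1,3,3,1,2,1,2,1,3,3,0,2,2,0,3,0,3,0,2,2,1,3,3,1,2,1]))
 (Tr.node (Tr.leaf [0,2,2,0,3,0,3,0,2,2,1,3,3,1,2,1,2,1,3,3,0,2,2,0,3,0,3,0,2,2,1,3,3,1,2,1,2,1,3,3])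
 (Tr.leaf [3,0,2,2,0,3,0,3,0,2,2,1,3,3,1,2,1,2,1,3,3,0,2,2,0,3,0,3,0,2,2,1,3,3,1,2,1,2,1,3]))))))
 (Tr.node (Tr.node (Tr.node (Tr.node (Tr.node (Tr.leaf [1,0])
 (Tr.leaf [0,3,0,3,0,2,2,1,3,3,1,2,1,2,1,3,3,0,2,2,0,3,0,3,0,2,2,1,3,3,1,2,1,2,1,3,3,0,2,2]))
 (Tr.node (Tr.leaf [1,3,3,3,0,3,3,1,3,3,3,0,3,3,1,3,3,3,0,3,3])
 (Tr.leaf [3,0,2,2,0,3,0,3,0,2,2,1,3,3,1,2,1,2,1,3,3,0,2,2,0,3,0,3,0,2,2,1,3,3,1,2,1,2,1,3])))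
 (Tr.node (Tr.node (Tr.leaf [2,1,1,3,1,1])
 (Tr.leaf [3,3,1,2,1,2,1,3,3,0,2,2,0,3,0,3,0,2,2,1,3,3,1,2,1,2,1,3,3,0,2,2,0,3,0,3,0,2,2,1]))
 (Tr.node (Tr.leaf [1,3,3,3,1,3,1,3,3,3,1,3,1,3,3,3,1,3,1,3,3,3,1,3])
 (Tr.leaf [3,0,2,2,0,3,0,3,0,2,2,1,3,3,1,2,1,2,1,3,3,0,2,2,0,3,0,3,0,2,2,1,3,3,1,2,1,2,1,3]))))
 (Tr.node (Tr.node (Tr.node (Tr.leaf [1,3,1,1,2,1])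
 (Tr.leaf [0,2,2,1,3,3,1,2,1,2,1,3,3,0,2,2,0,3,0,3,0,2,2,1,3,3,1,2,1,2,1,3,3,0,2,2,0,3,0,3]))
 (Tr.node (Tr.leaf [1,3,1,3,1,3,1,3,1,3,1,3,1,3,1,3])
 (Tr.leaf [3,0,2,2,0,3,0,3,0,2,2,1,3,3,1,2,1,2,1,3,3,0,2,2,0,3,0,3,0,2,2,1,3,3,1,2,1,2,1,3])))
 (Tr.node (Tr.node (Tr.leaf [3,0,2,1,3,0,2,1,3,0,2,1])
 (Tr.leaf [1,2,1,3,3,0,2,2,0,3,0,3,0,2,2,1,3,3,1,2,1,2,1,3,3,0,2,2,0,3,0,3,0,2,2,1,3,3,1,2]))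
 (Tr.node (Tr.leaf [1,1,1,1])
 (Tr.leaf [3,0,2,2,0,3,0,3,0,2,2,1,3,3,1,2,1,2,1,3,3,0,2,2,0,3,0,3,0,2,2,1,3,3,1,2,1,2,1,3])))))
 (Tr.node (Tr.node (Tr.node (Tr.node (Tr.leaf [3,3,3,3,3,3])
 (Tr.leaf [0,3,0,2,2,1,3,3,1,2,1,2,1,3,3,0,2,2,0,3,0,3,0,2,2,1,3,3,1,2,1,2,1,3,3,0,2,2,0,3]))
 (Tr.node (Tr.leaf [3,3,0,3,3,1,3,3,3,0,3,3,1,3,3,3,0,3,3,1,3])
 (Tr.leaf [3,0,2,2,0,3,0,3,0,2,2,1,3,3,1,2,1,2,1,3,3,0,2,2,0,3,0,3,0,2,2,1,3,3,1,2,1,2,1,3])))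
 (Tr.node (Tr.node (Tr.leaf [2,1,3,0,2,1,3,0,2,1,3,0])
 (Tr.leaf [1,2,1,2,1,3,3,0,2,2,0,3,0,3,0,2,2,1,3,3,1,2,1,2,1,3,3,0,2,2,0,3,0,3,0,2,2,1,3,3]))
 (Tr.node (Tr.leaf [3,3,1,3,1,3,3,3,1,3,1,3,3,3,1,3,1,3,3,3,1,3,1,3])
 (Tr.leaf [3,0,2,2,0,3,0,3,0,2,2,1,3,3,1,2,1,2,1,3,3,0,2,2,0,3,0,3,0,2,2,1,3,3,1,2,1,2,1,3]))))
 (Tr.node (Tr.node (Tr.node (Tr.leaf [1,1,2,1,1,3])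
 (Tr.leaf [2,1,3,3,1,2,1,2,1,3,3,0,2,2,0,3,0,3,0,2,2,1,3,3,1,2,1,2,1,3,3,0,2,2,0,3,0,3,0,2]))
 (Tr.node (Tr.leaf [1,3,1,3,3,3,1,3,1,3,3,3,1,3,1,3,3,3,1,3,1,3,3,3])
 (Tr.leaf [3,0,2,2,0,3,0,3,0,2,2,1,3,3,1,2,1,2,1,3,3,0,2,2,0,3,0,3,0,2,2,1,3,3,1,2,1,2,1,3])))
 (Tr.node (Tr.node (Tr.leaf [3,3,1,3,3,3,0,3,3,1,3,3,3,0,3,3,1,3,3,3,0])
 (Tr.leaf [1,3,3,0,2,2,0,3,0,3,0,2,2,1,3,3,1,2,1,2,1,3,3,0,2,2,0,3,0,3,0,2,2,1,3,3,1,2,1,2]))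
 (Tr.node (Tr.leaf [2,2,0,3,0,3,0,2,2,1,3,3,1,2,1,2,1,3,3,0,2,2,0,3,0,3,0,2,2,1,3,3,1,2,1,2,1,3,3,0])
 (Tr.leaf [3,0,2,2,0,3,0,3,0,2,2,1,3,3,1,2,1,2,1,3,3,0,2,2,0,3,0,3,0,2,2,1,3,3,1,2,1,2,1,3])))))))
 (Tr.node (Tr.node (Tr.node (Tr.node (Tr.node (Tr.node (Tr.leaf [0,1])
 (Tr.leaf [3,0,3,0,2,2,0,3,3,1,2,1,2,1,3,3,1,2,2,0,3,0,3,0,2,2,0,3,3,1,2,1,2,1,3,3,1,2,2,0]))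
 (Tr.node (Tr.leaf [0,2,2,1,2,2,2,0,2,2,1,2,2,2,0,2,2,1,2,2,2])
 (Tr.leaf [1,2,2,0,3,0,3,0,2,2,0,3,3,1,2,1,2,1,3,3,1,2,2,0,3,0,3,0,2,2,0,3,3,1,2,1,2,1,3,3])))
 (Tr.node (Tr.node (Tr.leaf [0,3,0,0,2,0])
 (Tr.leaf [3,1,2,1,2,1,3,3,1,2,2,0,3,0,3,0,2,2,0,3,3,1,2,1,2,1,3,3,1,2,2,0,3,0,3,0,2,2,0,3]))
 (Tr.node (Tr.leaf [2,0,2,0,2,2,2,0,2,0,2,2,2,0,2,0,2,2,2,0,2,0,2,2])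
 (Tr.leaf [3,0,2,2,0,3,0,3,0,2,2,1,3,3,1,2,1,2,1,3,3,0,2,2,0,3,0,3,0,2,2,1,3,3,1,2,1,2,1,3]))))
 (Tr.node (Tr.node (Tr.node (Tr.leaf [0,0,2,0,0,3])
 (Tr.leaf [2,2,0,3,3,1,2,1,2,1,3,3,1,2,2,0,3,0,3,0,2,2,0,3,3,1,2,1,2,1,3,3,1,2,2,0,3,0,3,0]))
 (Tr.node (Tr.leaf [2,0,2,0,2,0,2,0,2,0,2,0,2,0,2,0])
 (Tr.leaf [3,0,2,2,0,3,0,3,0,2,2,1,3,3,1,2,1,2,1,3,3,0,2,2,0,3,0,3,0,2,2,1,3,3,1,2,1,2,1,3])))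
 (Tr.node (Tr.node (Tr.leaf [1,2,0,3,1,2,0,3,1,2,0,3])
 (Tr.leaf [2,1,3,3,1,2,2,0,3,0,3,0,2,2,0,3,3,1,2,1,2,1,3,3,1,2,2,0,3,0,3,0,2,2,0,3,3,1,2,1]))
 (Tr.node (Tr.leaf [0,0,0,0])
 (Tr.leaf [3,0,2,2,0,3,0,3,0,2,2,1,3,3,1,2,1,2,1,3,3,0,2,2,0,3,0,3,0,2,2,1,3,3,1,2,1,2,1,3])))))
 (Tr.node (Tr.node (Tr.node (Tr.node (Tr.leaf [2,2,2,2,2,2])
 (Tr.leaf [3,0,2,2,0,3,3,1,2,1,2,1,3,3,1,2,2,0,3,0,3,0,2,2,0,3,3,1,2,1,2,1,3,3,1,2,2,0,3,0]))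
 (Tr.node (Tr.leaf [2,1,2,2,2,0,2,2,1,2,2,2,0,2,2,1,2,2,2,0,2])
 (Tr.leaf [3,0,2,2,0,3,0,3,0,2,2,1,3,3,1,2,1,2,1,3,3,0,2,2,0,3,0,3,0,2,2,1,3,3,1,2,1,2,1,3])))
 (Tr.node (Tr.node (Tr.leaf [0,3,1,2,0,3,1,2,0,3,1,2])
 (Tr.leaf [2,1,2,1,3,3,1,2,2,0,3,0,3,0,2,2,0,3,3,1,2,1,2,1,3,3,1,2,2,0,3,0,3,0,2,2,0,3,3,1]))
 (Tr.node (Tr.leaf [2,0,2,2,2,0,2,0,2,2,2,0,2,0,2,2,2,0,2,0,2,2,2,0])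
 (Tr.leaf [3,0,2,2,0,3,0,3,0,2,2,1,3,3,1,2,1,2,1,3,3,0,2,2,0,3,0,3,0,2,2,1,3,3,1,2,1,2,1,3]))))
 (Tr.node (Tr.node (Tr.node (Tr.leaf [2,0,0,3,0,0])
 (Tr.leaf [0,3,3,1,2,1,2,1,3,3,1,2,2,0,3,0,3,0,2,2,0,3,3,1,2,1,2,1,3,3,1,2,2,0,3,0,3,0,2,2]))
 (Tr.node (Tr.leaf [2,2,2,0,2,0,2,2,2,0,2,0,2,2,2,0,2,0,2,2,2,0,2,0])
 (Tr.leaf [3,0,2,2,0,3,0,3,0,2,2,1,3,3,1,2,1,2,1,3,3,0,2,2,0,3,0,3,0,2,2,1,3,3,1,2,1,2,1,3])))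
 (Tr.node (Tr.node (Tr.leaf [2,2,0,2,2,1,2,2,2,0,2,2,1,2,2,2,0,2,2,1,2])
 (Tr.leaf [3,3,1,2,2,0,3,0,3,0,2,2,0,3,3,1,2,1,2,1,3,3,1,2,2,0,3,0,3,0,2,2,0,3,3,1,2,1,2,1]))
 (Tr.node (Tr.leaf [2,0,3,0,3,0,2,2,0,3,3,1,2,1,2,1,3,3,1,2,2,0,3,0,3,0,2,2,0,3,3,1,2,1,2,1,3,3,1,2])
 (Tr.leaf [3,0,2,2,0,3,0,3,0,2,2,1,3,3,1,2,1,2,1,3,3,0,2,2,0,3,0,3,0,2,2,1,3,3,1,2,1,2,1,3]))))))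
 (Tr.node (Tr.node (Tr.node (Tr.node (Tr.node (Tr.leaf [2,3])
 (Tr.leaf [0,3,0,2,2,0,3,3,1,2,1,2,1,3,3,1,2,2,0,3,0,3,0,2,2,0,3,3,1,2,1,2,1,3,3,1,2,2,0,3]))
 (Tr.node (Tr.leaf [2,2,1,2,2,2,0,2,2,1,2,2,2,0,2,2,1,2,2,2,0])
 (Tr.leaf [3,0,2,2,0,3,0,3,0,2,2,1,3,3,1,2,1,2,1,3,3,0,2,2,0,3,0,3,0,2,2,1,3,3,1,2,1,2,1,3])))
 (Tr.node (Tr.node (Tr.leaf [2,0,3,1,2,0,3,1,2,0,3,1])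
 (Tr.leaf [1,2,1,2,1,3,3,1,2,2,0,3,0,3,0,2,2,0,3,3,1,2,1,2,1,3,3,1,2,2,0,3,0,3,0,2,2,0,3,3]))
 (Tr.node (Tr.leaf [0,2,0,2,2,2,0,2,0,2,2,2,0,2,0,2,2,2,0,2,0,2,2,2])
 (Tr.leaf [3,0,2,2,0,3,0,3,0,2,2,1,3,3,1,2,1,2,1,3,3,0,2,2,0,3,0,3,0,2,2,1,3,3,1,2,1,2,1,3]))))
 (Tr.node (Tr.node (Tr.node (Tr.leaf [0,2,0,0,3,0])
 (Tr.leaf [2,0,3,3,1,2,1,2,1,3,3,1,2,2,0,3,0,3,0,2,2,0,3,3,1,2,1,2,1,3,3,1,2,2,0,3,0,3,0,2]))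
 (Tr.node (Tr.leaf [0,2,0,2,0,2,0,2,0,2,0,2,0,2,0,2])
 (Tr.leaf [3,0,2,2,0,3,0,3,0,2,2,1,3,3,1,2,1,2,1,3,3,0,2,2,0,3,0,3,0,2,2,1,3,3,1,2,1,2,1,3])))
 (Tr.node (Tr.node (Tr.leaf [2,2,2,0,2,2,1,2,2,2,0,2,2,1,2,2,2,0,2,2,1])
 (Tr.leaf [1,3,3,1,2,2,0,3,0,3,0,2,2,0,3,3,1,2,1,2,1,3,3,1,2,2,0,3,0,3,0,2,2,0,3,3,1,2,1,2]))
 (Tr.node (Tr.leaf [2,2,0,3,0,3,0,2,2,0,3,3,1,2,1,2,1,3,3,1,2,2,0,3,0,3,0,2,2,0,3,3,1,2,1,2,1,3,3,1])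
 (Tr.leaf [3,0,2,2,0,3,0,3,0,2,2,1,3,3,1,2,1,2,1,3,3,0,2,2,0,3,0,3,0,2,2,1,3,3,1,2,1,2,1,3])))))
 (Tr.node (Tr.node (Tr.node (Tr.node (Tr.leaf [3,0,0,2,0,0])
 (Tr.leaf [0,2,2,0,3,3,1,2,1,2,1,3,3,1,2,2,0,3,0,3,0,2,2,0,3,3,1,2,1,2,1,3,3,1,2,2,0,3,0,3]))
 (Tr.node (Tr.leaf [1,2,2,2,0,2,2,1,2,2,2,0,2,2,1,2,2,2,0,2,2])
 (Tr.leaf [3,0,2,2,0,3,0,3,0,2,2,1,3,3,1,2,1,2,1,3,3,0,2,2,0,3,0,3,0,2,2,1,3,3,1,2,1,2,1,3])))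
 (Tr.node (Tr.node (Tr.leaf [3,1,2,0,3,1,2,0,3,1,2,0])
 (Tr.leaf [1,2,1,3,3,1,2,2,0,3,0,3,0,2,2,0,3,3,1,2,1,2,1,3,3,1,2,2,0,3,0,3,0,2,2,0,3,3,1,2]))
 (Tr.node (Tr.leaf [0,2,2,2,0,2,0,2,2,2,0,2,0,2,2,2,0,2,0,2,2,2,0,2])
 (Tr.leaf [3,0,2,2,0,3,0,3,0,2,2,1,3,3,1,2,1,2,1,3,3,0,2,2,0,3,0,3,0,2,2,1,3,3,1,2,1,2,1,3]))))
 (Tr.node (Tr.node (Tr.node (Tr.leaf [0,0,3,0,0,2])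
 (Tr.leaf [3,3,1,2,1,2,1,3,3,1,2,2,0,3,0,3,0,2,2,0,3,3,1,2,1,2,1,3,3,1,2,2,0,3,0,3,0,2,2,0]))
 (Tr.node (Tr.leaf [2,2,0,2,0,2,2,2,0,2,0,2,2,2,0,2,0,2,2,2,0,2,0,2])
 (Tr.leaf [3,0,2,2,0,3,0,3,0,2,2,1,3,3,1,2,1,2,1,3,3,0,2,2,0,3,0,3,0,2,2,1,3,3,1,2,1,2,1,3])))
 (Tr.node (Tr.node (Tr.leaf [2,0,2,2,1,2,2,2,0,2,2,1,2,2,2,0,2,2,1,2,2])
 (Tr.leaf [3,1,2,2,0,3,0,3,0,2,2,0,3,3,1,2,1,2,1,3,3,1,2,2,0,3,0,3,0,2,2,0,3,3,1,2,1,2,1,3]))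
 (Tr.node (Tr.leaf [0,3,0,3,0,2,2,0,3,3,1,2,1,2,1,3,3,1,2,2,0,3,0,3,0,2,2,0,3,3,1,2,1,2,1,3,3,1,2,2])
 (Tr.leaf [3,0,2,2,0,3,0,3,0,2,2,1,3,3,1,2,1,2,1,3,3,0,2,2,0,3,0,3,0,2,2,1,3,3,1,2,1,2,1,3]))))))))

/-- The subgroup rotations. -/
noncomputable def srotT : Tr (List Nat × Nat × List Nat) := (Tr.node (Tr.node (Tr.leaf ([],2,[]))
 (Tr.leaf ([0],0,[])))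
 (Tr.node (Tr.leaf ([],0,[0]))
 (Tr.leaf ([0],0,[]))))

/-- The certificate. -/
noncomputable def cert : Cert :=
  mkCert 4 109182 384183 5 99 102 4 15 305 53 212 285 9007199254740991 9444732965739290427391 19 17 524287 131071 36 34 7 ctree.get rotT.get srotT.get

/-- The witnesses of the rotations. -/
noncomputable def witT : Tr (Nat × Nat × Bool) := (Tr.node (Tr.node (Tr.node (Tr.node (Tr.node (Tr.node (Tr.node (Tr.leaf (0,0,false))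
 (Tr.leaf (7,2,true)))
 (Tr.node (Tr.leaf (3,2,true))
 (Tr.leaf (7,18,true))))
 (Tr.node (Tr.node (Tr.leaf (1,4,true))
 (Tr.leaf (7,10,true)))
 (Tr.node (Tr.leaf (5,1,true))
 (Tr.leaf (7,19,true)))))
 (Tr.node (Tr.node (Tr.node (Tr.leaf (1,0,true))
 (Tr.leaf (7,6,true)))
 (Tr.node (Tr.leaf (3,6,true))
 (Tr.leaf (7,19,true))))
 (Tr.node (Tr.node (Tr.leaf (2,2,true))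
 (Tr.leaf (7,14,true)))
 (Tr.node (Tr.leaf (5,5,true))
 (Tr.leaf (7,19,true))))))
 (Tr.node (Tr.node (Tr.node (Tr.node (Tr.leaf (8,3,false))
 (Tr.leaf (7,4,true)))
 (Tr.node (Tr.leaf (3,4,true))
 (Tr.leaf (7,19,true))))
 (Tr.node (Tr.node (Tr.leaf (2,0,true))
 (Tr.leaf (7,12,true)))
 (Tr.node (Tr.leaf (5,3,true))
 (Tr.leaf (7,19,true)))))
 (Tr.node (Tr.node (Tr.node (Tr.leaf (1,2,true))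
 (Tr.leaf (7,8,true)))
 (Tr.node (Tr.leaf (4,1,true))
 (Tr.leaf (7,19,true))))
 (Tr.node (Tr.node (Tr.leaf (3,0,true))
 (Tr.leaf (7,16,true)))
 (Tr.node (Tr.leaf (7,0,true))
 (Tr.leaf (7,19,true)))))))
 (Tr.node (Tr.node (Tr.node (Tr.node (Tr.node (Tr.leaf (8,1,false))
 (Tr.leaf (7,3,true)))
 (Tr.node (Tr.leaf (3,3,true))
 (Tr.leaf (7,19,true))))
 (Tr.node (Tr.node (Tr.leaf (1,5,true))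
 (Tr.leaf (7,11,true)))
 (Tr.node (Tr.leaf (5,2,true))
 (Tr.leaf (7,19,true)))))
 (Tr.node (Tr.node (Tr.node (Tr.leaf (1,1,true))
 (Tr.leaf (7,7,true)))
 (Tr.node (Tr.leaf (4,0,true))
 (Tr.leaf (7,19,true))))
 (Tr.node (Tr.node (Tr.leaf (2,3,true))
 (Tr.leaf (7,15,true)))
 (Tr.node (Tr.leaf (6,0,true))
 (Tr.leaf (7,19,true))))))
 (Tr.node (Tr.node (Tr.node (Tr.node (Tr.leaf (0,0,true))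
 (Tr.leaf (7,5,true)))
 (Tr.node (Tr.leaf (3,5,true))
 (Tr.leaf (7,19,true))))
 (Tr.node (Tr.node (Tr.leaf (2,1,true))
 (Tr.leaf (7,13,true)))
 (Tr.node (Tr.leaf (5,4,true))
 (Tr.leaf (7,19,true)))))
 (Tr.node (Tr.node (Tr.node (Tr.leaf (1,3,true))
 (Tr.leaf (7,9,true)))
 (Tr.node (Tr.leaf (5,0,true))
 (Tr.leaf (7,19,true))))
 (Tr.node (Tr.node (Tr.leaf (3,1,true))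
 (Tr.leaf (7,17,true)))
 (Tr.node (Tr.leaf (7,1,true))
 (Tr.leaf (7,19,true))))))))
 (Tr.node (Tr.node (Tr.node (Tr.node (Tr.node (Tr.node (Tr.leaf (8,0,false))
 (Tr.leaf (7,3,false)))
 (Tr.node (Tr.leaf (3,3,false))
 (Tr.leaf (7,19,false))))
 (Tr.node (Tr.node (Tr.leaf (1,5,false))
 (Tr.leaf (7,11,false)))
 (Tr.node (Tr.leaf (5,2,false))
 (Tr.leaf (7,19,true)))))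
 (Tr.node (Tr.node (Tr.node (Tr.leaf (1,1,false))
 (Tr.leaf (7,7,false)))
 (Tr.node (Tr.leaf (4,0,false))
 (Tr.leaf (7,19,true))))
 (Tr.node (Tr.node (Tr.leaf (2,3,false))
 (Tr.leaf (7,15,false)))
 (Tr.node (Tr.leaf (6,0,false))
 (Tr.leaf (7,19,true))))))
 (Tr.node (Tr.node (Tr.node (Tr.node (Tr.leaf (0,0,false))
 (Tr.leaf (7,5,false)))
 (Tr.node (Tr.leaf (3,5,false))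
 (Tr.leaf (7,19,true))))
 (Tr.node (Tr.node (Tr.leaf (2,1,false))
 (Tr.leaf (7,13,false)))
 (Tr.node (Tr.leaf (5,4,false))
 (Tr.leaf (7,19,true)))))
 (Tr.node (Tr.node (Tr.node (Tr.leaf (1,3,false))
 (Tr.leaf (7,9,false)))
 (Tr.node (Tr.leaf (5,0,false))
 (Tr.leaf (7,19,true))))
 (Tr.node (Tr.node (Tr.leaf (3,1,false))
 (Tr.leaf (7,17,false)))
 (Tr.node (Tr.leaf (7,1,false))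
 (Tr.leaf (7,19,true)))))))
 (Tr.node (Tr.node (Tr.node (Tr.node (Tr.node (Tr.leaf (8,2,false))
 (Tr.leaf (7,4,false)))
 (Tr.node (Tr.leaf (3,4,false))
 (Tr.leaf (7,19,true))))
 (Tr.node (Tr.node (Tr.leaf (2,0,false))
 (Tr.leaf (7,12,false)))
 (Tr.node (Tr.leaf (5,3,false))
 (Tr.leaf (7,19,true)))))
 (Tr.node (Tr.node (Tr.node (Tr.leaf (1,2,false))
 (Tr.leaf (7,8,false)))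
 (Tr.node (Tr.leaf (4,1,false))
 (Tr.leaf (7,19,true))))
 (Tr.node (Tr.node (Tr.leaf (3,0,false))
 (Tr.leaf (7,16,false)))
 (Tr.node (Tr.leaf (7,0,false))
 (Tr.leaf (7,19,true))))))
 (Tr.node (Tr.node (Tr.node (Tr.node (Tr.leaf (1,0,false))
 (Tr.leaf (7,6,false)))
 (Tr.node (Tr.leaf (3,6,false))
 (Tr.leaf (7,19,true))))
 (Tr.node (Tr.node (Tr.leaf (2,2,false))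
 (Tr.leaf (7,14,false)))
 (Tr.node (Tr.leaf (5,5,false))
 (Tr.leaf (7,19,true)))))
 (Tr.node (Tr.node (Tr.node (Tr.leaf (1,4,false))
 (Tr.leaf (7,10,false)))
 (Tr.node (Tr.leaf (5,1,false))
 (Tr.leaf (7,19,true))))
 (Tr.node (Tr.node (Tr.leaf (3,2,false))
 (Tr.leaf (7,18,false)))
 (Tr.node (Tr.leaf (7,2,false))
 (Tr.leaf (7,19,true)))))))))

/-- The inverses. -/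
def inv' (c : Nat) : Nat := [1,0,3,2].getD c 0

/-- The relators. -/
def rels' : List (List Nat) :=
  [[2,2,2,2,2,2],
   [3,0,0,2,0,0],
   [2,0,3,1,2,0,3,1,2,0,3,1],
   [2,2,2,0,2,2,1,2,2,2,0,2,2,1,2,2,2,0,2,2,1],
   [2,0,2,0,2,0,2,0,2,0,2,0,2,0,2,0],
   [2,2,2,0,2,0,2,2,2,0,2,0,2,2,2,0,2,0,2,2,2,0,2,0],
   [0,0,0,0],
   [2,2,0,3,0,3,0,2,2,0,3,3,1,2,1,2,1,3,3,1,2,2,0,3,0,3,0,2,2,0,3,3,1,2,1,2,1,3,3,1]]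

/-- The subgroup. -/
def subs' : List (List Nat) :=
  [[2],[0,0]]


end Cfsg.Agent.Lib.TC.D.HNC.S3_Tab
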