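import Cfsg.Agent.Lib.TC.G.HN
import Cfsg.Agent.Lib.TC.Chain
import Cfsg.Agent.Lib.TC.D.HNC.X_T0

namespace Cfsg.Agent.Lib.TC.D.HNC.X_Tab

open Cfsg.Agent.Lib.TC.Core Cfsg.Agent.Lib.TC.Enc Cfsg.Agent.Lib.TC.Pres Cfsg.Agent.Lib.TC.Perm Cfsg.Agent.Lib.TC.Main Cfsg.Agent.Lib.TC.Chain

set_option maxRecDepth 100000

/-- The chunks of the certificate. -/
noncomputable def ctree : Tr Nat := Cfsg.Agent.Lib.TC.D.HNC.X_T0.tree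

/-- The relator rotations. -/
noncomputable def rotT : Tr (List Nat) := (Tr.node (Tr.node (Tr.node (Tr.node (Tr.node (Tr.node (Tr.node (Tr.node (Tr.leaf [])
 (Tr.leaf [2,2,4,3,3,3,1,3,1,3,0,2,0,2,0,2,2,2,4,3,3,3,1,3,1,3,0,2,0,2,0,2,2,2,4,3,3,3,1,3,1,3,4,0,2,0,2,0,2]))
 (Tr.node (Tr.leaf [2,0,2,0,2,2,2,0,2,0,2,2,2,0,2,0,2,2,2,0,2,0,2,2])
 (Tr.leaf [2,2,4,3,3,3,1,3,1,3,4,0,2,0,2,0,2,2,2,4,3,3,3,1,3,1,3,0,2,0,2,0,2,2,2,4,3,3,3,1,3,1,3,0,2,0,2,0,2])))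
 (Tr.node (Tr.node (Tr.leaf [0,3,0,0,2,0])
 (Tr.leaf [2,2,4,3,3,3,1,3,1,3,0,2,0,2,0,2,2,2,4,3,3,3,1,3,1,3,4,0,2,0,2,0,2,2,2,4,3,3,3,1,3,1,3,0,2,0,2,0,2]))
 (Tr.node (Tr.leaf [4,3,1,3,1,3,3,1,2,4,1,1,3,0,2,2,0,2,0,2])
 (Tr.leaf [1,5,5,0,5]))))
 (Tr.node (Tr.node (Tr.node (Tr.leaf [2,1,3,3,4,5])
 (Tr.leaf [1,3,0,2,0,2,0,2,2,2,4,3,3,3,1,3,1,3,0,2,0,2,0,2,2,2,4,3,3,3,1,3,1,3,4,0,2,0,2,0,2,2,2,4,3,3,3,1,3]))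
 (Tr.node (Tr.leaf [3,0,2,2,0,2,0,2,4,3,1,3,1,3,3,1,2,4,1,1])
 (Tr.leaf [1,3,4,0,2,0,2,0,2,2,2,4,3,3,3,1,3,1,3,0,2,0,2,0,2,2,2,4,3,3,3,1,3,1,3,0,2,0,2,0,2,2,2,4,3,3,3,1,3])))
 (Tr.node (Tr.node (Tr.leaf [0,2,2,1,2,2,2,0,2,2,1,2,2,2,0,2,2,1,2,2,2])
 (Tr.leaf [1,3,0,2,0,2,0,2,2,2,4,3,3,3,1,3,1,3,4,0,2,0,2,0,2,2,2,4,3,3,3,1,3,1,3,0,2,0,2,0,2,2,2,4,3,3,3,1,3]))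
 (Tr.node (Tr.leaf [2,4,1,1,3,0,2,2,0,2,0,2,4,3,1,3,1,3,3,1])
 (Tr.leaf [6,4,6,4,6,4])))))
 (Tr.node (Tr.node (Tr.node (Tr.node (Tr.leaf [3,3,4,5,2,1])
 (Tr.leaf [3,3,1,3,1,3,0,2,0,2,0,2,2,2,4,3,3,3,1,3,1,3,0,2,0,2,0,2,2,2,4,3,3,3,1,3,1,3,4,0,2,0,2,0,2,2,2,4,3]))
 (Tr.node (Tr.leaf [0,4,0,4])
 (Tr.leaf [3,3,1,3,1,3,4,0,2,0,2,0,2,2,2,4,3,3,3,1,3,1,3,0,2,0,2,0,2,2,2,4,3,3,3,1,3,1,3,0,2,0,2,0,2,2,2,4,3])))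
 (Tr.node (Tr.node (Tr.leaf [1,2,0,3,1,2,0,3,1,2,0,3])
 (Tr.leaf [3,3,1,3,1,3,0,2,0,2,0,2,2,2,4,3,3,3,1,3,1,3,4,0,2,0,2,0,2,2,2,4,3,3,3,1,3,1,3,0,2,0,2,0,2,2,2,4,3]))
 (Tr.node (Tr.leaf [1,3,3,1,2,4,1,1,3,0,2,2,0,2,0,2,4,3,1,3])
 (Tr.leaf [6,2,5,3]))))
 (Tr.node (Tr.node (Tr.node (Tr.leaf [0,0,2,0,0,3])
 (Tr.leaf [0,2,0,2,2,2,4,3,3,3,1,3,1,3,0,2,0,2,0,2,2,2,4,3,3,3,1,3,1,3,4,0,2,0,2,0,2,2,2,4,3,3,3,1,3,1,3,0,2]))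
 (Tr.node (Tr.leaf [0,2,0,2,4,3,1,3,1,3,3,1,2,4,1,1,3,0,2,2])
 (Tr.leaf [5,5,0,5,1])))
 (Tr.node (Tr.node (Tr.leaf [2,0,2,0,2,0,2,0,2,0,2,0,2,0,2,0])
 (Tr.leaf [0,2,0,2,2,2,4,3,3,3,1,3,1,3,4,0,2,0,2,0,2,2,2,4,3,3,3,1,3,1,3,0,2,0,2,0,2,2,2,4,3,3,3,1,3,1,3,0,2]))
 (Tr.node (Tr.leaf [0,2,0,2,2,2,4,3,3,3,1,3,1,3,0,2,0,2,0,2,2,2,4,3,3,3,1,3,1,3,0,2,0,2,0,2,2,2,4,3,3,3,1,3,1,3,4,0,2])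
 (Tr.leaf [6,4,6,4,6,4]))))))
 (Tr.node (Tr.node (Tr.node (Tr.node (Tr.node (Tr.leaf [3,2])
 (Tr.leaf [4,3,3,3,1,3,1,3,0,2,0,2,0,2,2,2,4,3,3,3,1,3,1,3,0,2,0,2,0,2,2,2,4,3,3,3,1,3,1,3,4,0,2,0,2,0,2,2,2]))
 (Tr.node (Tr.leaf [2,0,2,2,2,0,2,0,2,2,2,0,2,0,2,2,2,0,2,0,2,2,2,0])
 (Tr.leaf [4,3,3,3,1,3,1,3,4,0,2,0,2,0,2,2,2,4,3,3,3,1,3,1,3,0,2,0,2,0,2,2,2,4,3,3,3,1,3,1,3,0,2,0,2,0,2,2,2])))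
 (Tr.node (Tr.node (Tr.leaf [0,3,1,2,0,3,1,2,0,3,1,2])
 (Tr.leaf [4,3,3,3,1,3,1,3,0,2,0,2,0,2,2,2,4,3,3,3,1,3,1,3,4,0,2,0,2,0,2,2,2,4,3,3,3,1,3,1,3,0,2,0,2,0,2,2,2]))
 (Tr.node (Tr.leaf [1,3,1,3,3,1,2,4,1,1,3,0,2,2,0,2,0,2,4,3])
 (Tr.leaf [5,3,6,2]))))
 (Tr.node (Tr.node (Tr.node (Tr.leaf [2,2,2,2,2,2])
 (Tr.leaf [0,2,0,2,0,2,2,2,4,3,3,3,1,3,1,3,0,2,0,2,0,2,2,2,4,3,3,3,1,3,1,3,4,0,2,0,2,0,2,2,2,4,3,3,3,1,3,1,3]))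
 (Tr.node (Tr.leaf [2,2,0,2,0,2,4,3,1,3,1,3,3,1,2,4,1,1,3,0])
 (Tr.leaf [4,0,2,0,2,0,2,2,2,4,3,3,3,1,3,1,3,0,2,0,2,0,2,2,2,4,3,3,3,1,3,1,3,0,2,0,2,0,2,2,2,4,3,3,3,1,3,1,3])))
 (Tr.node (Tr.node (Tr.leaf [2,1,2,2,2,0,2,2,1,2,2,2,0,2,2,1,2,2,2,0,2])
 (Tr.leaf [0,2,0,2,0,2,2,2,4,3,3,3,1,3,1,3,4,0,2,0,2,0,2,2,2,4,3,3,3,1,3,1,3,0,2,0,2,0,2,2,2,4,3,3,3,1,3,1,3]))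
 (Tr.node (Tr.leaf [0,2,0,2,0,2,2,2,4,3,3,3,1,3,1,3,0,2,0,2,0,2,2,2,4,3,3,3,1,3,1,3,0,2,0,2,0,2,2,2,4,3,3,3,1,3,1,3,4])
 (Tr.leaf [6,4,6,4,6,4])))))
 (Tr.node (Tr.node (Tr.node (Tr.node (Tr.leaf [4,5,2,1,3,3])
 (Tr.leaf [1,3,1,3,0,2,0,2,0,2,2,2,4,3,3,3,1,3,1,3,0,2,0,2,0,2,2,2,4,3,3,3,1,3,1,3,4,0,2,0,2,0,2,2,2,4,3,3,3]))
 (Tr.node (Tr.leaf [1,1,3,0,2,2,0,2,0,2,4,3,1,3,1,3,3,1,2,4])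
 (Tr.leaf [1,3,1,3,4,0,2,0,2,0,2,2,2,4,3,3,3,1,3,1,3,0,2,0,2,0,2,2,2,4,3,3,3,1,3,1,3,0,2,0,2,0,2,2,2,4,3,3,3])))
 (Tr.node (Tr.node (Tr.leaf [2,2,0,2,2,1,2,2,2,0,2,2,1,2,2,2,0,2,2,1,2])
 (Tr.leaf [1,3,1,3,0,2,0,2,0,2,2,2,4,3,3,3,1,3,1,3,4,0,2,0,2,0,2,2,2,4,3,3,3,1,3,1,3,0,2,0,2,0,2,2,2,4,3,3,3]))
 (Tr.node (Tr.leaf [3,1,2,4,1,1,3,0,2,2,0,2,0,2,4,3,1,3,1,3])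
 (Tr.leaf [4,5,4,5,4,5]))))
 (Tr.node (Tr.node (Tr.node (Tr.leaf [2,0,0,3,0,0])
 (Tr.leaf [0,2,2,2,4,3,3,3,1,3,1,3,0,2,0,2,0,2,2,2,4,3,3,3,1,3,1,3,4,0,2,0,2,0,2,2,2,4,3,3,3,1,3,1,3,0,2,0,2]))
 (Tr.node (Tr.leaf [0,2,4,3,1,3,1,3,3,1,2,4,1,1,3,0,2,2,0,2])
 (Tr.leaf [0,5,1,5,5])))
 (Tr.node (Tr.node (Tr.leaf [2,2,2,0,2,0,2,2,2,0,2,0,2,2,2,0,2,0,2,2,2,0,2,0])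
 (Tr.leaf [0,2,2,2,4,3,3,3,1,3,1,3,4,0,2,0,2,0,2,2,2,4,3,3,3,1,3,1,3,0,2,0,2,0,2,2,2,4,3,3,3,1,3,1,3,0,2,0,2]))
 (Tr.node (Tr.leaf [0,2,2,2,4,3,3,3,1,3,1,3,0,2,0,2,0,2,2,2,4,3,3,3,1,3,1,3,0,2,0,2,0,2,2,2,4,3,3,3,1,3,1,3,4,0,2,0,2])
 (Tr.leaf [6,4,6,4,6,4])))))))
 (Tr.node (Tr.node (Tr.node (Tr.node (Tr.node (Tr.node (Tr.leaf [1,0])
 (Tr.leaf [2,4,3,3,3,1,3,1,3,0,2,0,2,0,2,2,2,4,3,3,3,1,3,1,3,0,2,0,2,0,2,2,2,4,3,3,3,1,3,1,3,4,0,2,0,2,0,2,2]))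
 (Tr.node (Tr.leaf [0,2,0,2,2,2,0,2,0,2,2,2,0,2,0,2,2,2,0,2,0,2,2,2])
 (Tr.leaf [2,4,3,3,3,1,3,1,3,4,0,2,0,2,0,2,2,2,4,3,3,3,1,3,1,3,0,2,0,2,0,2,2,2,4,3,3,3,1,3,1,3,0,2,0,2,0,2,2])))
 (Tr.node (Tr.node (Tr.leaf [2,0,3,1,2,0,3,1,2,0,3,1])
 (Tr.leaf [2,4,3,3,3,1,3,1,3,0,2,0,2,0,2,2,2,4,3,3,3,1,3,1,3,4,0,2,0,2,0,2,2,2,4,3,3,3,1,3,1,3,0,2,0,2,0,2,2]))
 (Tr.node (Tr.leaf [3,1,3,1,3,3,1,2,4,1,1,3,0,2,2,0,2,0,2,4])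
 (Tr.leaf [2,5,3,6]))))
 (Tr.node (Tr.node (Tr.node (Tr.leaf [1,3,3,4,5,2])
 (Tr.leaf [3,0,2,0,2,0,2,2,2,4,3,3,3,1,3,1,3,0,2,0,2,0,2,2,2,4,3,3,3,1,3,1,3,4,0,2,0,2,0,2,2,2,4,3,3,3,1,3,1]))
 (Tr.node (Tr.leaf [0,2,2,0,2,0,2,4,3,1,3,1,3,3,1,2,4,1,1,3])
 (Tr.leaf [3,4,0,2,0,2,0,2,2,2,4,3,3,3,1,3,1,3,0,2,0,2,0,2,2,2,4,3,3,3,1,3,1,3,0,2,0,2,0,2,2,2,4,3,3,3,1,3,1])))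
 (Tr.node (Tr.node (Tr.leaf [2,2,1,2,2,2,0,2,2,1,2,2,2,0,2,2,1,2,2,2,0])
 (Tr.leaf [3,0,2,0,2,0,2,2,2,4,3,3,3,1,3,1,3,4,0,2,0,2,0,2,2,2,4,3,3,3,1,3,1,3,0,2,0,2,0,2,2,2,4,3,3,3,1,3,1]))
 (Tr.node (Tr.leaf [4,1,1,3,0,2,2,0,2,0,2,4,3,1,3,1,3,3,1,2])
 (Tr.leaf [6,4,6,4,6,4])))))
 (Tr.node (Tr.node (Tr.node (Tr.node (Tr.leaf [3,4,5,2,1,3])
 (Tr.leaf [3,1,3,1,3,0,2,0,2,0,2,2,2,4,3,3,3,1,3,1,3,0,2,0,2,0,2,2,2,4,3,3,3,1,3,1,3,4,0,2,0,2,0,2,2,2,4,3,3]))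
 (Tr.node (Tr.leaf [4,0,4,0])
 (Tr.leaf [3,1,3,1,3,4,0,2,0,2,0,2,2,2,4,3,3,3,1,3,1,3,0,2,0,2,0,2,2,2,4,3,3,3,1,3,1,3,0,2,0,2,0,2,2,2,4,3,3])))
 (Tr.node (Tr.node (Tr.leaf [2,2,2,0,2,2,1,2,2,2,0,2,2,1,2,2,2,0,2,2,1])
 (Tr.leaf [3,1,3,1,3,0,2,0,2,0,2,2,2,4,3,3,3,1,3,1,3,4,0,2,0,2,0,2,2,2,4,3,3,3,1,3,1,3,0,2,0,2,0,2,2,2,4,3,3]))
 (Tr.node (Tr.leaf [3,3,1,2,4,1,1,3,0,2,2,0,2,0,2,4,3,1,3,1])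
 (Tr.leaf [5,4,5,4,5,4]))))
 (Tr.node (Tr.node (Tr.node (Tr.leaf [0,2,0,0,3,0])
 (Tr.leaf [2,0,2,2,2,4,3,3,3,1,3,1,3,0,2,0,2,0,2,2,2,4,3,3,3,1,3,1,3,4,0,2,0,2,0,2,2,2,4,3,3,3,1,3,1,3,0,2,0]))
 (Tr.node (Tr.leaf [2,0,2,4,3,1,3,1,3,3,1,2,4,1,1,3,0,2,2,0])
 (Tr.leaf [5,0,5,1,5])))
 (Tr.node (Tr.node (Tr.leaf [0,2,0,2,0,2,0,2,0,2,0,2,0,2,0,2])
 (Tr.leaf [2,0,2,2,2,4,3,3,3,1,3,1,3,4,0,2,0,2,0,2,2,2,4,3,3,3,1,3,1,3,0,2,0,2,0,2,2,2,4,3,3,3,1,3,1,3,0,2,0]))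
 (Tr.node (Tr.leaf [2,0,2,2,2,4,3,3,3,1,3,1,3,0,2,0,2,0,2,2,2,4,3,3,3,1,3,1,3,0,2,0,2,0,2,2,2,4,3,3,3,1,3,1,3,4,0,2,0])
 (Tr.leaf [6,4,6,4,6,4]))))))
 (Tr.node (Tr.node (Tr.node (Tr.node (Tr.node (Tr.leaf [5,6])
 (Tr.leaf [3,3,3,1,3,1,3,0,2,0,2,0,2,2,2,4,3,3,3,1,3,1,3,0,2,0,2,0,2,2,2,4,3,3,3,1,3,1,3,4,0,2,0,2,0,2,2,2,4]))
 (Tr.node (Tr.leaf [0,2,2,2,0,2,0,2,2,2,0,2,0,2,2,2,0,2,0,2,2,2,0,2])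
 (Tr.leaf [3,3,3,1,3,1,3,4,0,2,0,2,0,2,2,2,4,3,3,3,1,3,1,3,0,2,0,2,0,2,2,2,4,3,3,3,1,3,1,3,0,2,0,2,0,2,2,2,4])))
 (Tr.node (Tr.node (Tr.leaf [3,1,2,0,3,1,2,0,3,1,2,0])
 (Tr.leaf [3,3,3,1,3,1,3,0,2,0,2,0,2,2,2,4,3,3,3,1,3,1,3,4,0,2,0,2,0,2,2,2,4,3,3,3,1,3,1,3,0,2,0,2,0,2,2,2,4]))
 (Tr.node (Tr.leaf [3,1,3,3,1,2,4,1,1,3,0,2,2,0,2,0,2,4,3,1])
 (Tr.leaf [3,6,2,5]))))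
 (Tr.node (Tr.node (Tr.node (Tr.leaf [3,0,0,2,0,0])
 (Tr.leaf [2,0,2,0,2,2,2,4,3,3,3,1,3,1,3,0,2,0,2,0,2,2,2,4,3,3,3,1,3,1,3,4,0,2,0,2,0,2,2,2,4,3,3,3,1,3,1,3,0]))
 (Tr.node (Tr.leaf [2,0,2,0,2,4,3,1,3,1,3,3,1,2,4,1,1,3,0,2])
 (Tr.leaf [5,5,5,5,5])))
 (Tr.node (Tr.node (Tr.leaf [1,2,2,2,0,2,2,1,2,2,2,0,2,2,1,2,2,2,0,2,2])
 (Tr.leaf [2,0,2,0,2,2,2,4,3,3,3,1,3,1,3,4,0,2,0,2,0,2,2,2,4,3,3,3,1,3,1,3,0,2,0,2,0,2,2,2,4,3,3,3,1,3,1,3,0]))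
 (Tr.node (Tr.leaf [2,0,2,0,2,2,2,4,3,3,3,1,3,1,3,0,2,0,2,0,2,2,2,4,3,3,3,1,3,1,3,0,2,0,2,0,2,2,2,4,3,3,3,1,3,1,3,4,0])
 (Tr.leaf [6,4,6,4,6,4])))))
 (Tr.node (Tr.node (Tr.node (Tr.node (Tr.leaf [5,2,1,3,3,4])
 (Tr.leaf [3,1,3,0,2,0,2,0,2,2,2,4,3,3,3,1,3,1,3,0,2,0,2,0,2,2,2,4,3,3,3,1,3,1,3,4,0,2,0,2,0,2,2,2,4,3,3,3,1]))
 (Tr.node (Tr.leaf [1,3,0,2,2,0,2,0,2,4,3,1,3,1,3,3,1,2,4,1])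
 (Tr.leaf [3,1,3,4,0,2,0,2,0,2,2,2,4,3,3,3,1,3,1,3,0,2,0,2,0,2,2,2,4,3,3,3,1,3,1,3,0,2,0,2,0,2,2,2,4,3,3,3,1])))
 (Tr.node (Tr.node (Tr.leaf [2,0,2,2,1,2,2,2,0,2,2,1,2,2,2,0,2,2,1,2,2])
 (Tr.leaf [3,1,3,0,2,0,2,0,2,2,2,4,3,3,3,1,3,1,3,4,0,2,0,2,0,2,2,2,4,3,3,3,1,3,1,3,0,2,0,2,0,2,2,2,4,3,3,3,1]))
 (Tr.node (Tr.leaf [1,2,4,1,1,3,0,2,2,0,2,0,2,4,3,1,3,1,3,3])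
 (Tr.leaf [6,4,6,4,6,4]))))
 (Tr.node (Tr.node (Tr.node (Tr.leaf [0,0,3,0,0,2])
 (Tr.leaf [2,2,2,4,3,3,3,1,3,1,3,0,2,0,2,0,2,2,2,4,3,3,3,1,3,1,3,4,0,2,0,2,0,2,2,2,4,3,3,3,1,3,1,3,0,2,0,2,0]))
 (Tr.node (Tr.leaf [2,4,3,1,3,1,3,3,1,2,4,1,1,3,0,2,2,0,2,0])
 (Tr.leaf [5,1,5,5,0])))
 (Tr.node (Tr.node (Tr.leaf [2,2,0,2,0,2,2,2,0,2,0,2,2,2,0,2,0,2,2,2,0,2,0,2])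
 (Tr.leaf [2,2,2,4,3,3,3,1,3,1,3,4,0,2,0,2,0,2,2,2,4,3,3,3,1,3,1,3,0,2,0,2,0,2,2,2,4,3,3,3,1,3,1,3,0,2,0,2,0]))
 (Tr.node (Tr.leaf [2,2,2,4,3,3,3,1,3,1,3,0,2,0,2,0,2,2,2,4,3,3,3,1,3,1,3,0,2,0,2,0,2,2,2,4,3,3,3,1,3,1,3,4,0,2,0,2,0])
 (Tr.leaf [6,4,6,4,6,4]))))))))
 (Tr.node (Tr.node (Tr.node (Tr.node (Tr.node (Tr.node (Tr.node (Tr.leaf [0,1])
 (Tr.leaf [2,2,4,3,3,3,1,3,1,3,1,2,0,2,0,2,2,2,4,3,3,3,1,3,1,3,1,2,0,2,0,2,2,2,4,3,3,3,1,3,1,3,1,4,2,0,2,0,2]))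
 (Tr.node (Tr.leaf [1,3,3,3,1,3,1,3,3,3,1,3,1,3,3,3,1,3,1,3,3,3,1,3])
 (Tr.leaf [2,2,4,3,3,3,1,3,1,3,1,4,2,0,2,0,2,2,2,4,3,3,3,1,3,1,3,1,2,0,2,0,2,2,2,4,3,3,3,1,3,1,3,1,2,0,2,0,2])))
 (Tr.node (Tr.node (Tr.leaf [2,1,1,3,1,1])
 (Tr.leaf [2,2,4,3,3,3,1,3,1,3,1,2,0,2,0,2,2,2,4,3,3,3,1,3,1,3,1,4,2,0,2,0,2,2,2,4,3,3,3,1,3,1,3,1,2,0,2,0,2]))
 (Tr.node (Tr.leaf [3,1,3,1,3,3,1,2,0,0,4,3,0,2,2,0,2,0,2,4])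
 (Tr.leaf [6,0,6,1,6]))))
 (Tr.node (Tr.node (Tr.node (Tr.leaf [2,2,0,3,6,4])
 (Tr.leaf [1,3,1,2,0,2,0,2,2,2,4,3,3,3,1,3,1,3,1,2,0,2,0,2,2,2,4,3,3,3,1,3,1,3,1,4,2,0,2,0,2,2,2,4,3,3,3,1,3]))
 (Tr.node (Tr.leaf [0,2,2,0,2,0,2,4,3,1,3,1,3,3,1,2,0,0,4,3])
 (Tr.leaf [1,3,1,4,2,0,2,0,2,2,2,4,3,3,3,1,3,1,3,1,2,0,2,0,2,2,2,4,3,3,3,1,3,1,3,1,2,0,2,0,2,2,2,4,3,3,3,1,3])))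
 (Tr.node (Tr.node (Tr.leaf [1,3,3,3,0,3,3,1,3,3,3,0,3,3,1,3,3,3,0,3,3])
 (Tr.leaf [1,3,1,2,0,2,0,2,2,2,4,3,3,3,1,3,1,3,1,4,2,0,2,0,2,2,2,4,3,3,3,1,3,1,3,1,2,0,2,0,2,2,2,4,3,3,3,1,3]))
 (Tr.node (Tr.leaf [0,0,4,3,0,2,2,0,2,0,2,4,3,1,3,1,3,3,1,2])
 (Tr.leaf [6,4,6,4,6,4])))))
 (Tr.node (Tr.node (Tr.node (Tr.node (Tr.leaf [0,3,6,4,2,2])
 (Tr.leaf [3,3,1,3,1,3,1,2,0,2,0,2,2,2,4,3,3,3,1,3,1,3,1,2,0,2,0,2,2,2,4,3,3,3,1,3,1,3,1,4,2,0,2,0,2,2,2,4,3]))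
 (Tr.node (Tr.leaf [4,1,4,1])
 (Tr.leaf [3,3,1,3,1,3,1,4,2,0,2,0,2,2,2,4,3,3,3,1,3,1,3,1,2,0,2,0,2,2,2,4,3,3,3,1,3,1,3,1,2,0,2,0,2,2,2,4,3])))
 (Tr.node (Tr.node (Tr.leaf [3,0,2,1,3,0,2,1,3,0,2,1])
 (Tr.leaf [3,3,1,3,1,3,1,2,0,2,0,2,2,2,4,3,3,3,1,3,1,3,1,4,2,0,2,0,2,2,2,4,3,3,3,1,3,1,3,1,2,0,2,0,2,2,2,4,3]))
 (Tr.node (Tr.leaf [3,3,1,2,0,0,4,3,0,2,2,0,2,0,2,4,3,1,3,1])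
 (Tr.leaf [3,5,2,6]))))
 (Tr.node (Tr.node (Tr.node (Tr.leaf [1,3,1,1,2,1])
 (Tr.leaf [0,2,0,2,2,2,4,3,3,3,1,3,1,3,1,2,0,2,0,2,2,2,4,3,3,3,1,3,1,3,1,4,2,0,2,0,2,2,2,4,3,3,3,1,3,1,3,1,2]))
 (Tr.node (Tr.leaf [2,0,2,4,3,1,3,1,3,3,1,2,0,0,4,3,0,2,2,0])
 (Tr.leaf [0,6,1,6,6])))
 (Tr.node (Tr.node (Tr.leaf [1,3,1,3,1,3,1,3,1,3,1,3,1,3,1,3])
 (Tr.leaf [0,2,0,2,2,2,4,3,3,3,1,3,1,3,1,4,2,0,2,0,2,2,2,4,3,3,3,1,3,1,3,1,2,0,2,0,2,2,2,4,3,3,3,1,3,1,3,1,2]))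
 (Tr.node (Tr.leaf [0,2,0,2,2,2,4,3,3,3,1,3,1,3,1,2,0,2,0,2,2,2,4,3,3,3,1,3,1,3,1,2,0,2,0,2,2,2,4,3,3,3,1,3,1,3,1,4,2])
 (Tr.leaf [6,4,6,4,6,4]))))))
 (Tr.node (Tr.node (Tr.node (Tr.node (Tr.node (Tr.leaf [4,4])
 (Tr.leaf [4,3,3,3,1,3,1,3,1,2,0,2,0,2,2,2,4,3,3,3,1,3,1,3,1,2,0,2,0,2,2,2,4,3,3,3,1,3,1,3,1,4,2,0,2,0,2,2,2]))
 (Tr.node (Tr.leaf [3,3,1,3,1,3,3,3,1,3,1,3,3,3,1,3,1,3,3,3,1,3,1,3])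
 (Tr.leaf [4,3,3,3,1,3,1,3,1,4,2,0,2,0,2,2,2,4,3,3,3,1,3,1,3,1,2,0,2,0,2,2,2,4,3,3,3,1,3,1,3,1,2,0,2,0,2,2,2])))
 (Tr.node (Tr.node (Tr.leaf [2,1,3,0,2,1,3,0,2,1,3,0])
 (Tr.leaf [4,3,3,3,1,3,1,3,1,2,0,2,0,2,2,2,4,3,3,3,1,3,1,3,1,4,2,0,2,0,2,2,2,4,3,3,3,1,3,1,3,1,2,0,2,0,2,2,2]))
 (Tr.node (Tr.leaf [3,1,3,3,1,2,0,0,4,3,0,2,2,0,2,0,2,4,3,1])
 (Tr.leaf [2,6,3,5]))))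
 (Tr.node (Tr.node (Tr.node (Tr.leaf [3,3,3,3,3,3])
 (Tr.leaf [1,2,0,2,0,2,2,2,4,3,3,3,1,3,1,3,1,2,0,2,0,2,2,2,4,3,3,3,1,3,1,3,1,4,2,0,2,0,2,2,2,4,3,3,3,1,3,1,3]))
 (Tr.node (Tr.leaf [2,0,2,0,2,4,3,1,3,1,3,3,1,2,0,0,4,3,0,2])
 (Tr.leaf [1,4,2,0,2,0,2,2,2,4,3,3,3,1,3,1,3,1,2,0,2,0,2,2,2,4,3,3,3,1,3,1,3,1,2,0,2,0,2,2,2,4,3,3,3,1,3,1,3])))
 (Tr.node (Tr.node (Tr.leaf [3,3,0,3,3,1,3,3,3,0,3,3,1,3,3,3,0,3,3,1,3])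
 (Tr.leaf [1,2,0,2,0,2,2,2,4,3,3,3,1,3,1,3,1,4,2,0,2,0,2,2,2,4,3,3,3,1,3,1,3,1,2,0,2,0,2,2,2,4,3,3,3,1,3,1,3]))
 (Tr.node (Tr.leaf [4,2,0,2,0,2,2,2,4,3,3,3,1,3,1,3,1,2,0,2,0,2,2,2,4,3,3,3,1,3,1,3,1,2,0,2,0,2,2,2,4,3,3,3,1,3,1,3,1])
 (Tr.leaf [6,4,6,4,6,4])))))
 (Tr.node (Tr.node (Tr.node (Tr.node (Tr.leaf [6,4,2,2,0,3])
 (Tr.leaf [1,3,1,3,1,2,0,2,0,2,2,2,4,3,3,3,1,3,1,3,1,2,0,2,0,2,2,2,4,3,3,3,1,3,1,3,1,4,2,0,2,0,2,2,2,4,3,3,3]))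
 (Tr.node (Tr.leaf [4,3,0,2,2,0,2,0,2,4,3,1,3,1,3,3,1,2,0,0])
 (Tr.leaf [1,3,1,3,1,4,2,0,2,0,2,2,2,4,3,3,3,1,3,1,3,1,2,0,2,0,2,2,2,4,3,3,3,1,3,1,3,1,2,0,2,0,2,2,2,4,3,3,3])))
 (Tr.node (Tr.node (Tr.leaf [3,3,1,3,3,3,0,3,3,1,3,3,3,0,3,3,1,3,3,3,0])
 (Tr.leaf [1,3,1,3,1,2,0,2,0,2,2,2,4,3,3,3,1,3,1,3,1,4,2,0,2,0,2,2,2,4,3,3,3,1,3,1,3,1,2,0,2,0,2,2,2,4,3,3,3]))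
 (Tr.node (Tr.leaf [1,2,0,0,4,3,0,2,2,0,2,0,2,4,3,1,3,1,3,3])
 (Tr.leaf [6,4,6,4,6,4]))))
 (Tr.node (Tr.node (Tr.node (Tr.leaf [1,1,2,1,1,3])
 (Tr.leaf [0,2,2,2,4,3,3,3,1,3,1,3,1,2,0,2,0,2,2,2,4,3,3,3,1,3,1,3,1,4,2,0,2,0,2,2,2,4,3,3,3,1,3,1,3,1,2,0,2]))
 (Tr.node (Tr.leaf [2,4,3,1,3,1,3,3,1,2,0,0,4,3,0,2,2,0,2,0])
 (Tr.leaf [1,6,6,0,6])))
 (Tr.node (Tr.node (Tr.leaf [1,3,1,3,3,3,1,3,1,3,3,3,1,3,1,3,3,3,1,3,1,3,3,3])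
 (Tr.leaf [0,2,2,2,4,3,3,3,1,3,1,3,1,4,2,0,2,0,2,2,2,4,3,3,3,1,3,1,3,1,2,0,2,0,2,2,2,4,3,3,3,1,3,1,3,1,2,0,2]))
 (Tr.node (Tr.leaf [0,2,2,2,4,3,3,3,1,3,1,3,1,2,0,2,0,2,2,2,4,3,3,3,1,3,1,3,1,2,0,2,0,2,2,2,4,3,3,3,1,3,1,3,1,4,2,0,2])
 (Tr.leaf [6,4,6,4,6,4])))))))
 (Tr.node (Tr.node (Tr.node (Tr.node (Tr.node (Tr.node (Tr.leaf [2,3])
 (Tr.leaf [2,4,3,3,3,1,3,1,3,1,2,0,2,0,2,2,2,4,3,3,3,1,3,1,3,1,2,0,2,0,2,2,2,4,3,3,3,1,3,1,3,1,4,2,0,2,0,2,2]))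
 (Tr.node (Tr.leaf [3,3,3,1,3,1,3,3,3,1,3,1,3,3,3,1,3,1,3,3,3,1,3,1])
 (Tr.leaf [2,4,3,3,3,1,3,1,3,1,4,2,0,2,0,2,2,2,4,3,3,3,1,3,1,3,1,2,0,2,0,2,2,2,4,3,3,3,1,3,1,3,1,2,0,2,0,2,2])))
 (Tr.node (Tr.node (Tr.leaf [0,2,1,3,0,2,1,3,0,2,1,3])
 (Tr.leaf [2,4,3,3,3,1,3,1,3,1,2,0,2,0,2,2,2,4,3,3,3,1,3,1,3,1,4,2,0,2,0,2,2,2,4,3,3,3,1,3,1,3,1,2,0,2,0,2,2]))
 (Tr.node (Tr.leaf [1,3,1,3,3,1,2,0,0,4,3,0,2,2,0,2,0,2,4,3])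
 (Tr.leaf [5,2,6,3]))))
 (Tr.node (Tr.node (Tr.node (Tr.leaf [2,0,3,6,4,2])
 (Tr.leaf [3,1,2,0,2,0,2,2,2,4,3,3,3,1,3,1,3,1,2,0,2,0,2,2,2,4,3,3,3,1,3,1,3,1,4,2,0,2,0,2,2,2,4,3,3,3,1,3,1]))
 (Tr.node (Tr.leaf [2,2,0,2,0,2,4,3,1,3,1,3,3,1,2,0,0,4,3,0])
 (Tr.leaf [3,1,4,2,0,2,0,2,2,2,4,3,3,3,1,3,1,3,1,2,0,2,0,2,2,2,4,3,3,3,1,3,1,3,1,2,0,2,0,2,2,2,4,3,3,3,1,3,1])))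
 (Tr.node (Tr.node (Tr.leaf [3,3,3,0,3,3,1,3,3,3,0,3,3,1,3,3,3,0,3,3,1])
 (Tr.leaf [3,1,2,0,2,0,2,2,2,4,3,3,3,1,3,1,3,1,4,2,0,2,0,2,2,2,4,3,3,3,1,3,1,3,1,2,0,2,0,2,2,2,4,3,3,3,1,3,1]))
 (Tr.node (Tr.leaf [0,4,3,0,2,2,0,2,0,2,4,3,1,3,1,3,3,1,2,0])
 (Tr.leaf [6,4,6,4,6,4])))))
 (Tr.node (Tr.node (Tr.node (Tr.node (Tr.leaf [3,6,4,2,2,0])
 (Tr.leaf [3,1,3,1,3,1,2,0,2,0,2,2,2,4,3,3,3,1,3,1,3,1,2,0,2,0,2,2,2,4,3,3,3,1,3,1,3,1,4,2,0,2,0,2,2,2,4,3,3]))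
 (Tr.node (Tr.leaf [1,4,1,4])
 (Tr.leaf [3,1,3,1,3,1,4,2,0,2,0,2,2,2,4,3,3,3,1,3,1,3,1,2,0,2,0,2,2,2,4,3,3,3,1,3,1,3,1,2,0,2,0,2,2,2,4,3,3])))
 (Tr.node (Tr.node (Tr.leaf [0,3,3,1,3,3,3,0,3,3,1,3,3,3,0,3,3,1,3,3,3])
 (Tr.leaf [3,1,3,1,3,1,2,0,2,0,2,2,2,4,3,3,3,1,3,1,3,1,4,2,0,2,0,2,2,2,4,3,3,3,1,3,1,3,1,2,0,2,0,2,2,2,4,3,3]))
 (Tr.node (Tr.leaf [3,1,2,0,0,4,3,0,2,2,0,2,0,2,4,3,1,3,1,3])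
 (Tr.leaf [4,6,4,6,4,6]))))
 (Tr.node (Tr.node (Tr.node (Tr.leaf [3,1,1,2,1,1])
 (Tr.leaf [2,0,2,2,2,4,3,3,3,1,3,1,3,1,2,0,2,0,2,2,2,4,3,3,3,1,3,1,3,1,4,2,0,2,0,2,2,2,4,3,3,3,1,3,1,3,1,2,0]))
 (Tr.node (Tr.leaf [0,2,4,3,1,3,1,3,3,1,2,0,0,4,3,0,2,2,0,2])
 (Tr.leaf [6,1,6,6,0])))
 (Tr.node (Tr.node (Tr.leaf [3,1,3,1,3,1,3,1,3,1,3,1,3,1,3,1])
 (Tr.leaf [2,0,2,2,2,4,3,3,3,1,3,1,3,1,4,2,0,2,0,2,2,2,4,3,3,3,1,3,1,3,1,2,0,2,0,2,2,2,4,3,3,3,1,3,1,3,1,2,0]))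
 (Tr.node (Tr.leaf [2,0,2,2,2,4,3,3,3,1,3,1,3,1,2,0,2,0,2,2,2,4,3,3,3,1,3,1,3,1,2,0,2,0,2,2,2,4,3,3,3,1,3,1,3,1,4,2,0])
 (Tr.leaf [6,4,6,4,6,4]))))))
 (Tr.node (Tr.node (Tr.node (Tr.node (Tr.node (Tr.leaf [6,5])
 (Tr.leaf [3,3,3,1,3,1,3,1,2,0,2,0,2,2,2,4,3,3,3,1,3,1,3,1,2,0,2,0,2,2,2,4,3,3,3,1,3,1,3,1,4,2,0,2,0,2,2,2,4]))
 (Tr.node (Tr.leaf [3,1,3,1,3,3,3,1,3,1,3,3,3,1,3,1,3,3,3,1,3,1,3,3])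
 (Tr.leaf [3,3,3,1,3,1,3,1,4,2,0,2,0,2,2,2,4,3,3,3,1,3,1,3,1,2,0,2,0,2,2,2,4,3,3,3,1,3,1,3,1,2,0,2,0,2,2,2,4])))
 (Tr.node (Tr.node (Tr.leaf [1,3,0,2,1,3,0,2,1,3,0,2])
 (Tr.leaf [3,3,3,1,3,1,3,1,2,0,2,0,2,2,2,4,3,3,3,1,3,1,3,1,4,2,0,2,0,2,2,2,4,3,3,3,1,3,1,3,1,2,0,2,0,2,2,2,4]))
 (Tr.node (Tr.leaf [1,3,3,1,2,0,0,4,3,0,2,2,0,2,0,2,4,3,1,3])
 (Tr.leaf [6,3,5,2]))))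
 (Tr.node (Tr.node (Tr.node (Tr.leaf [1,1,3,1,1,2])
 (Tr.leaf [2,0,2,0,2,2,2,4,3,3,3,1,3,1,3,1,2,0,2,0,2,2,2,4,3,3,3,1,3,1,3,1,4,2,0,2,0,2,2,2,4,3,3,3,1,3,1,3,1]))
 (Tr.node (Tr.leaf [0,2,0,2,4,3,1,3,1,3,3,1,2,0,0,4,3,0,2,2])
 (Tr.leaf [6,6,6,6,6])))
 (Tr.node (Tr.node (Tr.leaf [3,0,3,3,1,3,3,3,0,3,3,1,3,3,3,0,3,3,1,3,3])
 (Tr.leaf [2,0,2,0,2,2,2,4,3,3,3,1,3,1,3,1,4,2,0,2,0,2,2,2,4,3,3,3,1,3,1,3,1,2,0,2,0,2,2,2,4,3,3,3,1,3,1,3,1]))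
 (Tr.node (Tr.leaf [2,0,2,0,2,2,2,4,3,3,3,1,3,1,3,1,2,0,2,0,2,2,2,4,3,3,3,1,3,1,3,1,2,0,2,0,2,2,2,4,3,3,3,1,3,1,3,1,4])
 (Tr.leaf [6,4,6,4,6,4])))))
 (Tr.node (Tr.node (Tr.node (Tr.node (Tr.leaf [4,2,2,0,3,6])
 (Tr.leaf [3,1,3,1,2,0,2,0,2,2,2,4,3,3,3,1,3,1,3,1,2,0,2,0,2,2,2,4,3,3,3,1,3,1,3,1,4,2,0,2,0,2,2,2,4,3,3,3,1]))
 (Tr.node (Tr.leaf [3,0,2,2,0,2,0,2,4,3,1,3,1,3,3,1,2,0,0,4])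
 (Tr.leaf [3,1,3,1,4,2,0,2,0,2,2,2,4,3,3,3,1,3,1,3,1,2,0,2,0,2,2,2,4,3,3,3,1,3,1,3,1,2,0,2,0,2,2,2,4,3,3,3,1])))
 (Tr.node (Tr.node (Tr.leaf [3,1,3,3,3,0,3,3,1,3,3,3,0,3,3,1,3,3,3,0,3])
 (Tr.leaf [3,1,3,1,2,0,2,0,2,2,2,4,3,3,3,1,3,1,3,1,4,2,0,2,0,2,2,2,4,3,3,3,1,3,1,3,1,2,0,2,0,2,2,2,4,3,3,3,1]))
 (Tr.node (Tr.leaf [2,0,0,4,3,0,2,2,0,2,0,2,4,3,1,3,1,3,3,1])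
 (Tr.leaf [6,4,6,4,6,4]))))
 (Tr.node (Tr.node (Tr.node (Tr.leaf [1,2,1,1,3,1])
 (Tr.leaf [2,2,2,4,3,3,3,1,3,1,3,1,2,0,2,0,2,2,2,4,3,3,3,1,3,1,3,1,4,2,0,2,0,2,2,2,4,3,3,3,1,3,1,3,1,2,0,2,0]))
 (Tr.node (Tr.leaf [4,3,1,3,1,3,3,1,2,0,0,4,3,0,2,2,0,2,0,2])
 (Tr.leaf [6,6,0,6,1])))
 (Tr.node (Tr.node (Tr.leaf [3,1,3,3,3,1,3,1,3,3,3,1,3,1,3,3,3,1,3,1,3,3,3,1])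
 (Tr.leaf [2,2,2,4,3,3,3,1,3,1,3,1,4,2,0,2,0,2,2,2,4,3,3,3,1,3,1,3,1,2,0,2,0,2,2,2,4,3,3,3,1,3,1,3,1,2,0,2,0]))
 (Tr.node (Tr.leaf [2,2,2,4,3,3,3,1,3,1,3,1,2,0,2,0,2,2,2,4,3,3,3,1,3,1,3,1,2,0,2,0,2,2,2,4,3,3,3,1,3,1,3,1,4,2,0,2,0])
 (Tr.leaf [6,4,6,4,6,4])))))))))

/-- The subgroup rotations. -/
noncomputable def srotT : Tr (List Nat × Nat × List Nat) := (Tr.leaf ([],0,[]))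

/-- The certificate. -/
noncomputable def cert : Cert :=
  mkCert 7 67 269 6 238 238 4 15 218 25 175 208 33554431 8589934591 9 7 511 127 16 14 7 ctree.get rotT.get srotT.get

/-- The witnesses of the rotations. -/
noncomputable def witT : Tr (Nat × Nat × Bool) := (Tr.node (Tr.node (Tr.node (Tr.node (Tr.node (Tr.node (Tr.node (Tr.node (Tr.leaf (0,0,false))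
 (Tr.leaf (10,6,false)))
 (Tr.node (Tr.leaf (6,2,false))
 (Tr.leaf (10,38,false))))
 (Tr.node (Tr.node (Tr.leaf (2,5,false))
 (Tr.leaf (10,22,false)))
 (Tr.node (Tr.leaf (9,10,false))
 (Tr.leaf (12,4,false)))))
 (Tr.node (Tr.node (Tr.node (Tr.leaf (0,4,false))
 (Tr.leaf (10,14,false)))
 (Tr.node (Tr.leaf (9,2,false))
 (Tr.leaf (10,46,false))))
 (Tr.node (Tr.node (Tr.leaf (4,3,false))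
 (Tr.leaf (10,30,false)))
 (Tr.node (Tr.leaf (9,18,false))
 (Tr.leaf (14,1,true))))))
 (Tr.node (Tr.node (Tr.node (Tr.node (Tr.leaf (0,0,false))
 (Tr.leaf (10,10,false)))
 (Tr.node (Tr.leaf (8,0,false))
 (Tr.leaf (10,42,false))))
 (Tr.node (Tr.node (Tr.leaf (3,3,false))
 (Tr.leaf (10,26,false)))
 (Tr.node (Tr.leaf (9,14,false))
 (Tr.leaf (13,3,false)))))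
 (Tr.node (Tr.node (Tr.node (Tr.leaf (2,1,false))
 (Tr.leaf (10,18,false)))
 (Tr.node (Tr.leaf (9,6,false))
 (Tr.leaf (12,0,false))))
 (Tr.node (Tr.node (Tr.leaf (5,0,false))
 (Tr.leaf (10,34,false)))
 (Tr.node (Tr.leaf (10,2,false))
 (Tr.leaf (14,1,true)))))))
 (Tr.node (Tr.node (Tr.node (Tr.node (Tr.node (Tr.leaf (15,3,false))
 (Tr.leaf (10,8,false)))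
 (Tr.node (Tr.leaf (6,4,false))
 (Tr.leaf (10,40,false))))
 (Tr.node (Tr.node (Tr.leaf (3,1,false))
 (Tr.leaf (10,24,false)))
 (Tr.node (Tr.leaf (9,12,false))
 (Tr.leaf (13,1,false)))))
 (Tr.node (Tr.node (Tr.node (Tr.leaf (1,0,false))
 (Tr.leaf (10,16,false)))
 (Tr.node (Tr.leaf (9,4,false))
 (Tr.leaf (10,48,false))))
 (Tr.node (Tr.node (Tr.leaf (4,5,false))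
 (Tr.leaf (10,32,false)))
 (Tr.node (Tr.leaf (10,0,false))
 (Tr.leaf (14,1,true))))))
 (Tr.node (Tr.node (Tr.node (Tr.node (Tr.leaf (0,2,false))
 (Tr.leaf (10,12,false)))
 (Tr.node (Tr.leaf (9,0,false))
 (Tr.leaf (10,44,false))))
 (Tr.node (Tr.node (Tr.leaf (4,1,false))
 (Tr.leaf (10,28,false)))
 (Tr.node (Tr.leaf (9,16,false))
 (Tr.leaf (14,1,false)))))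
 (Tr.node (Tr.node (Tr.node (Tr.leaf (2,3,false))
 (Tr.leaf (10,20,false)))
 (Tr.node (Tr.leaf (9,8,false))
 (Tr.leaf (12,2,false))))
 (Tr.node (Tr.node (Tr.leaf (6,0,false))
 (Tr.leaf (10,36,false)))
 (Tr.node (Tr.leaf (10,4,false))
 (Tr.leaf (14,1,true))))))))
 (Tr.node (Tr.node (Tr.node (Tr.node (Tr.node (Tr.node (Tr.leaf (15,1,false))
 (Tr.leaf (10,7,false)))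
 (Tr.node (Tr.leaf (6,3,false))
 (Tr.leaf (10,39,false))))
 (Tr.node (Tr.node (Tr.leaf (3,0,false))
 (Tr.leaf (10,23,false)))
 (Tr.node (Tr.leaf (9,11,false))
 (Tr.leaf (13,0,false)))))
 (Tr.node (Tr.node (Tr.node (Tr.leaf (0,5,false))
 (Tr.leaf (10,15,false)))
 (Tr.node (Tr.leaf (9,3,false))
 (Tr.leaf (10,47,false))))
 (Tr.node (Tr.node (Tr.leaf (4,4,false))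
 (Tr.leaf (10,31,false)))
 (Tr.node (Tr.leaf (9,19,false))
 (Tr.leaf (14,1,true))))))
 (Tr.node (Tr.node (Tr.node (Tr.node (Tr.leaf (0,1,false))
 (Tr.leaf (10,11,false)))
 (Tr.node (Tr.leaf (8,1,false))
 (Tr.leaf (10,43,false))))
 (Tr.node (Tr.node (Tr.leaf (4,0,false))
 (Tr.leaf (10,27,false)))
 (Tr.node (Tr.leaf (9,15,false))
 (Tr.leaf (14,0,false)))))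
 (Tr.node (Tr.node (Tr.node (Tr.leaf (2,2,false))
 (Tr.leaf (10,19,false)))
 (Tr.node (Tr.leaf (9,7,false))
 (Tr.leaf (12,1,false))))
 (Tr.node (Tr.node (Tr.leaf (5,1,false))
 (Tr.leaf (10,35,false)))
 (Tr.node (Tr.leaf (10,3,false))
 (Tr.leaf (14,1,true)))))))
 (Tr.node (Tr.node (Tr.node (Tr.node (Tr.node (Tr.leaf (15,5,false))
 (Tr.leaf (10,9,false)))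
 (Tr.node (Tr.leaf (6,5,false))
 (Tr.leaf (10,41,false))))
 (Tr.node (Tr.node (Tr.leaf (3,2,false))
 (Tr.leaf (10,25,false)))
 (Tr.node (Tr.leaf (9,13,false))
 (Tr.leaf (13,2,false)))))
 (Tr.node (Tr.node (Tr.node (Tr.leaf (2,0,false))
 (Tr.leaf (10,17,false)))
 (Tr.node (Tr.leaf (9,5,false))
 (Tr.leaf (11,0,false))))
 (Tr.node (Tr.node (Tr.leaf (4,6,false))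
 (Tr.leaf (10,33,false)))
 (Tr.node (Tr.leaf (10,1,false))
 (Tr.leaf (14,1,true))))))
 (Tr.node (Tr.node (Tr.node (Tr.node (Tr.leaf (0,3,false))
 (Tr.leaf (10,13,false)))
 (Tr.node (Tr.leaf (9,1,false))
 (Tr.leaf (10,45,false))))
 (Tr.node (Tr.node (Tr.leaf (4,2,false))
 (Tr.leaf (10,29,false)))
 (Tr.node (Tr.leaf (9,17,false))
 (Tr.leaf (14,1,true)))))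
 (Tr.node (Tr.node (Tr.node (Tr.leaf (2,4,false))
 (Tr.leaf (10,21,false)))
 (Tr.node (Tr.leaf (9,9,false))
 (Tr.leaf (12,3,false))))
 (Tr.node (Tr.node (Tr.leaf (6,1,false))
 (Tr.leaf (10,37,false)))
 (Tr.node (Tr.leaf (10,5,false))
 (Tr.leaf (14,1,true)))))))))
 (Tr.node (Tr.node (Tr.node (Tr.node (Tr.node (Tr.node (Tr.node (Tr.leaf (15,0,false))
 (Tr.leaf (10,6,true)))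
 (Tr.node (Tr.leaf (6,2,true))
 (Tr.leaf (10,38,true))))
 (Tr.node (Tr.node (Tr.leaf (2,5,true))
 (Tr.leaf (10,22,true)))
 (Tr.node (Tr.leaf (9,10,true))
 (Tr.leaf (12,4,true)))))
 (Tr.node (Tr.node (Tr.node (Tr.leaf (0,4,true))
 (Tr.leaf (10,14,true)))
 (Tr.node (Tr.leaf (9,2,true))
 (Tr.leaf (10,46,true))))
 (Tr.node (Tr.node (Tr.leaf (4,3,true))
 (Tr.leaf (10,30,true)))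
 (Tr.node (Tr.leaf (9,18,true))
 (Tr.leaf (14,1,true))))))
 (Tr.node (Tr.node (Tr.node (Tr.node (Tr.leaf (0,0,true))
 (Tr.leaf (10,10,true)))
 (Tr.node (Tr.leaf (8,0,true))
 (Tr.leaf (10,42,true))))
 (Tr.node (Tr.node (Tr.leaf (3,3,true))
 (Tr.leaf (10,26,true)))
 (Tr.node (Tr.leaf (9,14,true))
 (Tr.leaf (13,3,true)))))
 (Tr.node (Tr.node (Tr.node (Tr.leaf (2,1,true))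
 (Tr.leaf (10,18,true)))
 (Tr.node (Tr.leaf (9,6,true))
 (Tr.leaf (12,0,true))))
 (Tr.node (Tr.node (Tr.leaf (5,0,true))
 (Tr.leaf (10,34,true)))
 (Tr.node (Tr.leaf (10,2,true))
 (Tr.leaf (14,1,true)))))))
 (Tr.node (Tr.node (Tr.node (Tr.node (Tr.node (Tr.leaf (7,0,false))
 (Tr.leaf (10,8,true)))
 (Tr.node (Tr.leaf (6,4,true))
 (Tr.leaf (10,40,true))))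
 (Tr.node (Tr.node (Tr.leaf (3,1,true))
 (Tr.leaf (10,24,true)))
 (Tr.node (Tr.leaf (9,12,true))
 (Tr.leaf (13,1,true)))))
 (Tr.node (Tr.node (Tr.node (Tr.leaf (1,0,true))
 (Tr.leaf (10,16,true)))
 (Tr.node (Tr.leaf (9,4,true))
 (Tr.leaf (10,48,true))))
 (Tr.node (Tr.node (Tr.leaf (4,5,true))
 (Tr.leaf (10,32,true)))
 (Tr.node (Tr.leaf (10,0,true))
 (Tr.leaf (14,1,true))))))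
 (Tr.node (Tr.node (Tr.node (Tr.node (Tr.leaf (0,2,true))
 (Tr.leaf (10,12,true)))
 (Tr.node (Tr.leaf (9,0,true))
 (Tr.leaf (10,44,true))))
 (Tr.node (Tr.node (Tr.leaf (4,1,true))
 (Tr.leaf (10,28,true)))
 (Tr.node (Tr.leaf (9,16,true))
 (Tr.leaf (14,1,true)))))
 (Tr.node (Tr.node (Tr.node (Tr.leaf (2,3,true))
 (Tr.leaf (10,20,true)))
 (Tr.node (Tr.leaf (9,8,true))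
 (Tr.leaf (12,2,true))))
 (Tr.node (Tr.node (Tr.leaf (6,0,true))
 (Tr.leaf (10,36,true)))
 (Tr.node (Tr.leaf (10,4,true))
 (Tr.leaf (14,1,true))))))))
 (Tr.node (Tr.node (Tr.node (Tr.node (Tr.node (Tr.node (Tr.leaf (15,2,false))
 (Tr.leaf (10,7,true)))
 (Tr.node (Tr.leaf (6,3,true))
 (Tr.leaf (10,39,true))))
 (Tr.node (Tr.node (Tr.leaf (3,0,true))
 (Tr.leaf (10,23,true)))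
 (Tr.node (Tr.leaf (9,11,true))
 (Tr.leaf (13,0,true)))))
 (Tr.node (Tr.node (Tr.node (Tr.leaf (0,5,true))
 (Tr.leaf (10,15,true)))
 (Tr.node (Tr.leaf (9,3,true))
 (Tr.leaf (10,47,true))))
 (Tr.node (Tr.node (Tr.leaf (4,4,true))
 (Tr.leaf (10,31,true)))
 (Tr.node (Tr.leaf (9,19,true))
 (Tr.leaf (14,1,true))))))
 (Tr.node (Tr.node (Tr.node (Tr.node (Tr.leaf (0,1,true))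
 (Tr.leaf (10,11,true)))
 (Tr.node (Tr.leaf (8,1,true))
 (Tr.leaf (10,43,true))))
 (Tr.node (Tr.node (Tr.leaf (4,0,true))
 (Tr.leaf (10,27,true)))
 (Tr.node (Tr.leaf (9,15,true))
 (Tr.leaf (14,0,true)))))
 (Tr.node (Tr.node (Tr.node (Tr.leaf (2,2,true))
 (Tr.leaf (10,19,true)))
 (Tr.node (Tr.leaf (9,7,true))
 (Tr.leaf (12,1,true))))
 (Tr.node (Tr.node (Tr.leaf (5,1,true))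
 (Tr.leaf (10,35,true)))
 (Tr.node (Tr.leaf (10,3,true))
 (Tr.leaf (14,1,true)))))))
 (Tr.node (Tr.node (Tr.node (Tr.node (Tr.node (Tr.leaf (15,6,false))
 (Tr.leaf (10,9,true)))
 (Tr.node (Tr.leaf (6,5,true))
 (Tr.leaf (10,41,true))))
 (Tr.node (Tr.node (Tr.leaf (3,2,true))
 (Tr.leaf (10,25,true)))
 (Tr.node (Tr.leaf (9,13,true))
 (Tr.leaf (13,2,true)))))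
 (Tr.node (Tr.node (Tr.node (Tr.leaf (2,0,true))
 (Tr.leaf (10,17,true)))
 (Tr.node (Tr.leaf (9,5,true))
 (Tr.leaf (11,0,true))))
 (Tr.node (Tr.node (Tr.leaf (4,6,true))
 (Tr.leaf (10,33,true)))
 (Tr.node (Tr.leaf (10,1,true))
 (Tr.leaf (14,1,true))))))
 (Tr.node (Tr.node (Tr.node (Tr.node (Tr.leaf (0,3,true))
 (Tr.leaf (10,13,true)))
 (Tr.node (Tr.leaf (9,1,true))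
 (Tr.leaf (10,45,true))))
 (Tr.node (Tr.node (Tr.leaf (4,2,true))
 (Tr.leaf (10,29,true)))
 (Tr.node (Tr.leaf (9,17,true))
 (Tr.leaf (14,1,true)))))
 (Tr.node (Tr.node (Tr.node (Tr.leaf (2,4,true))
 (Tr.leaf (10,21,true)))
 (Tr.node (Tr.leaf (9,9,true))
 (Tr.leaf (12,3,true))))
 (Tr.node (Tr.node (Tr.leaf (6,1,true))
 (Tr.leaf (10,37,true)))
 (Tr.node (Tr.leaf (10,5,true))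
 (Tr.leaf (14,1,true))))))))))

/-- The element. -/
def xw : List Nat := [3,3,4,5,2,1]

/-- Its power. -/
def xwp : List Nat := [3,3,4,5,2,1,3,3,4,5,2,1,3,3,4,5,2,1,3,3,4,5,2,1,3,3,4,5,2,1,3,3,4,5,2,1,3,3,4,5,2,1,3,3,4,5,2,1,3,3,4,5,2,1,3,3,4,5,2,1,3,3,4,5,2,1,3,3,4,5,2,1,3,3,4,5,2,1,3,3,4,5,2,1,3,3,4,5,2,1,3,3,4,5,2,1,3,3,4,5,2,1,3,3,4,5,2,1,3,3,4,5,2,1]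

theorem hxwp : (List.replicate 19 xw).flatten = xwp := by decide

end Cfsg.Agent.Lib.TC.D.HNC.X_Tab
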